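import Groth.Agent.S9759
import Groth.Agent.S4963
import Groth.Agent.Lib.NormalBC6.Apply
import Groth.Agent.Lib.SectionCompFlat4
import Mathlib

/-!
# Idempotents of base changes along flat maps with geometrically reduced fibres
-/

universe u

open CategoryTheory CategoryTheory.Limits AlgebraicGeometry TensorProduct

set_option backward.isDefEq.respectTransparency.types false

namespace Groth.Agent.GeomConn24

/-- Reduced stalks of base changes to fields above a point with geometrically reduced fibre. -/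
theorem isReduced_stalk_of_geomReducedAt {X Y P : Scheme.{u}} (f : X ⟶ Y) {K : Type u} [Field K]
    {k : Spec (CommRingCat.of K) ⟶ Y} {p : P ⟶ X} {q : P ⟶ Spec (CommRingCat.of K)} (h : IsPullback p q f k) (z : P)
    (hz : FBase.IsGeomReducedAt (f.fiberToSpecResidueField (f (p z))) (f.asFiber (p z))) :
    _root_.IsReduced (P.presheaf.stalk z) := by
  obtain ⟨⟨y, φ⟩, hy⟩ := (Scheme.SpecToEquivOfField K Y).symm.surjective k
  have hk : Spec.map φ ≫ Y.fromSpecResidueField y = k := hy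
  have hyz : f (p z) = y := by
    rw [← Scheme.Hom.comp_apply, h.w, Scheme.Hom.comp_apply, ← hk, Scheme.Hom.comp_apply,
      Scheme.fromSpecResidueField_apply]
  subst hyz
  let g := f.fiberToSpecResidueField (f (p z))
  let b := Spec.map φ
  have hsq : IsPullback (pullback.fst g b ≫ f.fiberι (f (p z))) (pullback.snd g b) f k := by
    rw [← hk]
    exact (IsPullback.of_hasPullback g b).paste_horiz (IsPullback.of_hasPullback f _)
  let e := h.isoIsPullback _ _ hsq
  have he : e.hom ≫ pullback.fst g b ≫ f.fiberι (f (p z)) = p := h.isoIsPullback_hom_fst _ _ hsq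
  have hpt : pullback.fst g b (e.hom z) = f.asFiber (p z) := by
    apply (f.fiberι (f (p z))).isEmbedding.injective
    rw [f.fiberι_asFiber]
    exact congrArg (fun t : P ⟶ X => t z) he
  haveI : _root_.IsReduced ((pullback g b).presheaf.stalk (e.hom z)) :=
    @hz K _ φ.hom.toAlgebra (e.hom z) hpt
  exact (GeomRed.isReduced_stalk_congr e.hom z).1 ‹_›

variable {A C : Type u} [CommRing A] [CommRing C] [Algebra A C]

theorem geometricallyReduced_spec
    (hred : ∀ (K : Type u) [Field K] [Algebra A K], _root_.IsReduced (C ⊗[A] K)) :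
    GeometricallyReduced (Spec.map (CommRingCat.ofHom (algebraMap A C))) := by
  refine ⟨geometrically_iff_of_isClosedUnderIsomorphisms.2 fun K _ y => ?_⟩
  obtain ⟨φ, rfl⟩ := Spec.map_surjective y
  letI : Algebra A K := φ.hom.toAlgebra
  haveI := hred K
  haveI : IsReduced (Spec (CommRingCat.of (C ⊗[A] K))) := inferInstance
  exact isReduced_of_isOpenImmersion (pullbackSpecIso A C K).hom

variable [Algebra.FinitePresentation A C] [Module.Flat A C]

/-- A flat algebra of finite presentation with geometrically reduced fibres comes from a noetherian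
base, with all fibres geometrically reduced. -/
theorem exists_model (hred : ∀ (K : Type u) [Field K] [Algebra A K], _root_.IsReduced (C ⊗[A] K)) :
    ∃ (A₀ C₀ : Type u) (_ : CommRing A₀) (_ : CommRing C₀) (_ : Algebra A₀ A) (_ : Algebra A₀ C₀)
      (A₁ : Subalgebra A₀ A) (_ : A₁.FG),
      IsNoetherianRing A₁ ∧ Module.Flat A₀ C₀ ∧ Nonempty (A ⊗[A₀] C₀ ≃ₐ[A] C) ∧
      ∀ (L : Type u) [Field L] [Algebra A₁ L] [Algebra A₀ L] [IsScalarTower A₀ A₁ L],
        _root_.IsReduced (L ⊗[A₀] C₀) := by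
  classical
  obtain ⟨A₀, C₀, _, _, _, _, hfg, hft, hflat, ⟨ε⟩⟩ := S9759.exists_flat_approx A C
  haveI : IsNoetherianRing A₀ := Algebra.FiniteType.isNoetherianRing ℤ A₀
  haveI := hflat
  haveI : Algebra.FinitePresentation A₀ C₀ := Algebra.FinitePresentation.of_finiteType.1 hft
  let f₀ := Spec.map (CommRingCat.ofHom (algebraMap A₀ C₀))
  haveI : Flat f₀ := (HasRingHomProperty.Spec_iff (P := @Flat)).2 (RingHom.flat_algebraMap_iff.2 inferInstance)
  haveI : LocallyOfFinitePresentation f₀ := (HasRingHomProperty.Spec_iff (P := @LocallyOfFinitePresentation)).2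
    (RingHom.finitePresentation_algebraMap.2 inferInstance)
  let G := {x : Spec (CommRingCat.of C₀) | (f₀.stalkMap x).hom.Flat ∧
    FBase.IsGeomReducedAt (f₀.fiberToSpecResidueField (f₀.base x)) (f₀.asFiber x)}
  have hG : IsOpen G := S4963.result f₀
  obtain ⟨J, hJ⟩ := (PrimeSpectrum.isClosed_iff_zeroLocus_ideal (R := C₀) Gᶜ).1 hG.isClosed_compl
  let P := A ⊗[A₀] C₀
  haveI : GeometricallyReduced (Spec.map (CommRingCat.ofHom (algebraMap A P))) := geometricallyReduced_spec fun K _ _ => by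
    haveI := hred K
    exact isReduced_of_injective (Algebra.TensorProduct.congr ε (AlgEquiv.refl : K ≃ₐ[A] K))
      (AlgEquiv.injective _)
  have hsqP : IsPullback (Spec.map (CommRingCat.ofHom (Algebra.TensorProduct.includeRight : C₀ →ₐ[A₀] P).toRingHom))
      (Spec.map (CommRingCat.ofHom (algebraMap A P))) f₀ (Spec.map (CommRingCat.ofHom (algebraMap A₀ A))) :=
    (isPullback_SpecMap_of_isPushout _ _ _ _ (CommRingCat.isPushout_tensorProduct A₀ A C₀)).flip
  have h1 : (1 : P) ∈ J.map (Algebra.TensorProduct.includeRight : C₀ →ₐ[A₀] P).toRingHom := by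
    rw [← Ideal.eq_top_iff_one]
    by_contra hne
    obtain ⟨M, hM, hle⟩ := Ideal.exists_le_maximal _ hne
    let z : Spec (CommRingCat.of P) := ⟨M, hM.isPrime⟩
    let F := Spec.map (CommRingCat.ofHom (algebraMap A P))
    let x := Spec.map (CommRingCat.ofHom (Algebra.TensorProduct.includeRight : C₀ →ₐ[A₀] P).toRingHom) z
    have hx : x ∈ G := by
      refine ⟨Flat.stalkMap f₀ x, ?_⟩
      haveI : GeometricallyReduced (F.fiberToSpecResidueField (F z)) :=
        MorphismProperty.pullback_snd _ _ ‹GeometricallyReduced F›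
      exact SectionCompFlat4.isGeomReducedAt_of_baseChange f₀ hsqP z
        (SectionCompFlat4.isGeomReducedAt_of_geometricallyReduced (k := (Spec (CommRingCat.of A)).residueField (F z))
          _ _)
    have hxz : (x : PrimeSpectrum C₀) ∈ PrimeSpectrum.zeroLocus J := fun c hc => hle (Ideal.mem_map_of_mem _ hc)
    exact hJ.ge hxz hx
  -- finitely many coefficients
  let incl := fun (A₁ : Subalgebra A₀ A) => Algebra.TensorProduct.map A₁.val (AlgHom.id A₀ C₀)
  have key : ∀ w ∈ J.map (Algebra.TensorProduct.includeRight : C₀ →ₐ[A₀] P).toRingHom, ∃ t : Finset A,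
      ∀ A₁ : Subalgebra A₀ A, (t : Set A) ⊆ A₁ →
        ∃ y ∈ J.map (Algebra.TensorProduct.includeRight : C₀ →ₐ[A₀] A₁ ⊗[A₀] C₀).toRingHom, incl A₁ y = w := by
    intro w hw
    rw [Ideal.map] at hw
    induction hw using Submodule.span_induction with
    | mem w hw =>
      obtain ⟨c, hc, rfl⟩ := hw
      exact ⟨∅, fun A₁ _ => ⟨_, Ideal.mem_map_of_mem _ hc, by simp [incl]⟩⟩
    | zero => exact ⟨∅, fun A₁ _ => ⟨0, zero_mem _, map_zero _⟩⟩
    | add v w _ _ hv hw =>
      obtain ⟨t, ht⟩ := hv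
      obtain ⟨t', ht'⟩ := hw
      refine ⟨t ∪ t', fun A₁ hA₁ => ?_⟩
      obtain ⟨y, hy, rfl⟩ := ht A₁ fun a ha => hA₁ (Finset.mem_union_left _ ha)
      obtain ⟨y', hy', rfl⟩ := ht' A₁ fun a ha => hA₁ (Finset.mem_union_right _ ha)
      exact ⟨y + y', add_mem hy hy', map_add _ _ _⟩
    | smul r w _ hw =>
      obtain ⟨t, ht⟩ := hw
      obtain ⟨t', ht'⟩ := NormalBC6.exists_finset_tensor (A := A₀) (A' := C₀) r
      refine ⟨t ∪ t', fun A₁ hA₁ => ?_⟩
      obtain ⟨y, hy, rfl⟩ := ht A₁ fun a ha => hA₁ (Finset.mem_union_left _ ha)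
      obtain ⟨r', hr'⟩ := ht' (Subalgebra.toSubmodule A₁) fun a ha => hA₁ (Finset.mem_union_right _ ha)
      let r₁ : A₁ ⊗[A₀] C₀ := r'
      exact ⟨r₁ * y, Ideal.mul_mem_left _ _ hy,
        (map_mul (incl A₁) _ _).trans (congrArg (· * incl A₁ y) hr')⟩
  obtain ⟨t, ht⟩ := key 1 h1
  let A₁ := Algebra.adjoin A₀ (t : Set A)
  haveI : Algebra.FiniteType A₀ A₁ := (Subalgebra.fg_iff_finiteType A₁).1 (Subalgebra.fg_adjoin_finset t)
  refine ⟨A₀, C₀, inferInstance, inferInstance, inferInstance, inferInstance, A₁, Subalgebra.fg_adjoin_finset t,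
    Algebra.FiniteType.isNoetherianRing A₀ A₁, hflat, ⟨ε⟩, fun L _ _ _ _ => ?_⟩
  obtain ⟨y, hy, hy1⟩ := ht A₁ Algebra.subset_adjoin
  have hy' : y = 1 := Module.Flat.rTensor_preserves_injective_linearMap (M := C₀) A₁.val.toLinearMap
    Subtype.val_injective (hy1.trans (map_one (incl A₁)).symm)
  subst hy'
  let g : A₁ ⊗[A₀] C₀ →ₐ[A₀] L ⊗[A₀] C₀ :=
    Algebra.TensorProduct.map (IsScalarTower.toAlgHom A₀ A₁ L) (AlgHom.id A₀ C₀)
  have hJL : J.map (Algebra.TensorProduct.includeRight : C₀ →ₐ[A₀] L ⊗[A₀] C₀).toRingHom = ⊤ := by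
    rw [Ideal.eq_top_iff_one]
    have := Ideal.mem_map_of_mem g.toRingHom hy
    rw [Ideal.map_map, map_one] at this
    refine (congrArg (fun ψ : C₀ →+* L ⊗[A₀] C₀ => (1 : L ⊗[A₀] C₀) ∈ J.map ψ) ?_).mp this
    exact RingHom.ext fun c => (show g ((1 : A₁) ⊗ₜ[A₀] c) = (1 : L) ⊗ₜ[A₀] c by simp [g])
  haveI : ∀ z : Spec (CommRingCat.of (L ⊗[A₀] C₀)),
      _root_.IsReduced ((Spec (CommRingCat.of (L ⊗[A₀] C₀))).presheaf.stalk z) := fun z => by
    refine isReduced_stalk_of_geomReducedAt f₀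
      (isPullback_SpecMap_of_isPushout _ _ _ _ (CommRingCat.isPushout_tensorProduct A₀ L C₀)).flip z ?_
    by_contra hn
    have hz : (Spec.map (CommRingCat.ofHom (Algebra.TensorProduct.includeRight : C₀ →ₐ[A₀] L ⊗[A₀] C₀).toRingHom) z :
      PrimeSpectrum C₀) ∈ PrimeSpectrum.zeroLocus J := hJ.le fun h => hn h.2
    exact (z : PrimeSpectrum (L ⊗[A₀] C₀)).isPrime.ne_top (top_le_iff.1 (hJL ▸ Ideal.map_le_iff_le_comap.2 hz))
  haveI := isReduced_of_isReduced_stalk (Spec (CommRingCat.of (L ⊗[A₀] C₀)))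
  exact (affine_isReduced_iff (CommRingCat.of (L ⊗[A₀] C₀))).1 inferInstance

theorem geomReduced_fiber {R₀ R₁ S : Type u} [CommRing R₀] [CommRing R₁] [CommRing S] [Algebra R₀ R₁] [Algebra R₀ S]
    (hL : ∀ (L : Type u) [Field L] [Algebra R₁ L] [Algebra R₀ L] [IsScalarTower R₀ R₁ L],
      _root_.IsReduced (L ⊗[R₀] S))
    (p : Ideal R₁) [p.IsPrime] : Algebra.IsGeometricallyReduced p.ResidueField (p.Fiber (R₁ ⊗[R₀] S)) := by
  rw [Algebra.isGeometricallyReduced_field_iff]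
  let L := AlgebraicClosure p.ResidueField
  haveI := hL L
  let e1 : L ⊗[p.ResidueField] (p.Fiber (R₁ ⊗[R₀] S)) ≃ₐ[L] L ⊗[R₁] (R₁ ⊗[R₀] S) :=
    Algebra.TensorProduct.cancelBaseChange R₁ p.ResidueField L L (R₁ ⊗[R₀] S)
  let e2 : L ⊗[R₁] (R₁ ⊗[R₀] S) ≃ₐ[L] L ⊗[R₀] S := Algebra.TensorProduct.cancelBaseChange R₀ R₁ L L S
  exact isReduced_of_injective (e1.trans e2) (AlgEquiv.injective _)

theorem exists_cmp {R₀ A C L S : Type u} [CommRing R₀] [CommRing A] [CommRing C] [CommRing L] [CommRing S]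
    [Algebra R₀ A] [Algebra R₀ S] [Algebra A C] [Algebra A L] [Algebra R₀ L] [IsScalarTower R₀ A L]
    (R₁ : Subalgebra R₀ A) (ε : A ⊗[R₀] S ≃ₐ[A] C) :
    ∃ Φ : (R₁ ⊗[R₀] S) ⊗[R₁] L ≃+* C ⊗[A] L, (∀ l : L, Φ (1 ⊗ₜ[R₁] l) = (1 : C) ⊗ₜ[A] l) ∧
      ∀ c : R₁ ⊗[R₀] S, ∃ c' : C, Φ (c ⊗ₜ[R₁] (1 : L)) = c' ⊗ₜ[A] (1 : L) := by
  haveI : IsScalarTower R₀ R₁ L :=
    .of_algebraMap_eq fun r => IsScalarTower.algebraMap_apply R₀ A L r
  let ea : (R₁ ⊗[R₀] S) ⊗[R₁] L ≃+* L ⊗[R₀] S :=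
    (Algebra.TensorProduct.comm R₁ (R₁ ⊗[R₀] S) L).toRingEquiv.trans
      (Algebra.TensorProduct.cancelBaseChange R₀ R₁ L L S).toRingEquiv
  let eb : C ⊗[A] L ≃+* L ⊗[R₀] S :=
    (Algebra.TensorProduct.comm A C L).toRingEquiv.trans
      ((Algebra.TensorProduct.congr (AlgEquiv.refl : L ≃ₐ[A] L) ε.symm).toRingEquiv.trans
        (Algebra.TensorProduct.cancelBaseChange R₀ A L L S).toRingEquiv)
  have hb : ∀ (l : L) (a : A) (s : S), eb (ε (a ⊗ₜ[R₀] s) ⊗ₜ[A] l) = (a • l) ⊗ₜ[R₀] s := by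
    intro l a s
    show Algebra.TensorProduct.cancelBaseChange R₀ A L L S (l ⊗ₜ[A] ε.symm (ε (a ⊗ₜ[R₀] s))) = _
    rw [AlgEquiv.symm_apply_apply]
    exact Algebra.TensorProduct.cancelBaseChange_tmul (R := R₀) (S := A) (T := L) (A := L) (B := S) _ _ _
  have ha : ∀ (l : L) (a : R₁) (s : S), ea ((a ⊗ₜ[R₀] s) ⊗ₜ[R₁] l) = ((a : A) • l) ⊗ₜ[R₀] s := fun l a s => by
    show Algebra.TensorProduct.cancelBaseChange R₀ R₁ L L S (l ⊗ₜ[R₁] (a ⊗ₜ[R₀] s)) = _
    exact (Algebra.TensorProduct.cancelBaseChange_tmul (R := R₀) (S := R₁) (T := L) (A := L) (B := S) _ _ _).trans rfl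
  refine ⟨ea.trans eb.symm, fun l => ?_, fun c => ?_⟩
  · rw [RingEquiv.trans_apply, RingEquiv.symm_apply_eq]
    have h := hb l 1 1
    rw [← Algebra.TensorProduct.one_def, map_one] at h
    rw [h, Algebra.TensorProduct.one_def, ha]
    rfl
  induction c using TensorProduct.induction_on with
  | zero => exact ⟨0, by simp⟩
  | add x y hx hy =>
    obtain ⟨x', hx'⟩ := hx
    obtain ⟨y', hy'⟩ := hy
    exact ⟨x' + y', by rw [TensorProduct.add_tmul, map_add, hx', hy', TensorProduct.add_tmul]⟩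
  | tmul a s =>
    refine ⟨ε ((a : A) ⊗ₜ[R₀] s), ?_⟩
    rw [RingEquiv.trans_apply, RingEquiv.symm_apply_eq, ha, hb]

/-- Idempotents of base changes come from the integral closure. -/
theorem exists_idempotent_lift (hred : ∀ (K : Type u) [Field K] [Algebra A K], _root_.IsReduced (C ⊗[A] K))
    {L : Type u} [CommRing L] [Algebra A L] (e : C ⊗[A] L) (he : IsIdempotentElem e) :
    ∃ w : C ⊗[A] (integralClosure A L), IsIdempotentElem w ∧
      Algebra.TensorProduct.map (AlgHom.id A C) (integralClosure A L).val w = e := by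
  obtain ⟨A₀, C₀, _, _, _, _, A₁, -, hnoeth, hflat, ⟨ε⟩, hL⟩ := exists_model hred
  haveI := hnoeth
  haveI := hflat
  let C₁ := A₁ ⊗[A₀] C₀
  letI : Algebra A₀ L := ((algebraMap A L).comp (algebraMap A₀ A)).toAlgebra
  haveI : IsScalarTower A₀ A L := .of_algebraMap_eq fun _ => rfl
  obtain ⟨Φ, hl, hc⟩ := exists_cmp (L := L) A₁ ε
  have hfib : ∀ (p : Ideal A₁) [p.IsPrime], Algebra.IsGeometricallyReduced p.ResidueField (p.Fiber C₁) := fun p _ =>
    geomReduced_fiber hL p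
  let ψ : C ⊗[A] (integralClosure A L) →ₐ[A] C ⊗[A] L :=
    Algebra.TensorProduct.map (AlgHom.id A C) (integralClosure A L).val
  have hψ : Function.Injective ψ :=
    Module.Flat.lTensor_preserves_injective_linearMap (M := C) (integralClosure A L).val.toLinearMap
      Subtype.val_injective
  let e' := Φ.symm e
  have hint : e' ∈ integralClosure C₁ (C₁ ⊗[A₁] L) :=
    ⟨Polynomial.X ^ 2 - Polynomial.X,
      Polynomial.monic_X_pow_sub (Polynomial.degree_X_le.trans_lt (by norm_num)), by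
      simp [pow_two, (he.map Φ.symm).eq, e']⟩
  rw [NormalBC6.integralClosure_baseChange hfib] at hint
  have hmem : ∀ x ∈ Algebra.adjoin C₁ ((Algebra.TensorProduct.includeRight : L →ₐ[A₁] C₁ ⊗[A₁] L) ''
      (integralClosure A₁ L)), Φ x ∈ ψ.range := by
    intro x hx
    induction hx using Algebra.adjoin_induction with
    | mem x hx =>
      obtain ⟨l, hl', rfl⟩ := hx
      refine ⟨(1 : C) ⊗ₜ[A] (⟨l, IsIntegral.tower_top (A := A) (hl' : IsIntegral A₁ l)⟩ : integralClosure A L), ?_⟩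
      exact (hl l).symm
    | algebraMap c =>
      obtain ⟨c', hc'⟩ := hc c
      exact ⟨c' ⊗ₜ[A] 1, hc'.symm⟩
    | add x y _ _ hx hy => rw [map_add]; exact add_mem hx hy
    | mul x y _ _ hx hy => rw [map_mul]; exact mul_mem hx hy
  obtain ⟨w, hw⟩ : Φ e' ∈ ψ.range := hmem e' hint
  rw [RingEquiv.apply_symm_apply] at hw
  exact ⟨w, hψ (show ψ (w * w) = ψ w by rw [map_mul, show ψ w = e from hw]; exact he), hw⟩

end Groth.Agent.GeomConn24
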