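import Groth.Agent.Lib.GeomConn24.StagedConn
import Groth.Agent.Lib.GeomRed18.Perfect
import Mathlib.RingTheory.Smooth.NoetherianDescent

/-!
# Lifting idempotent-like elements from the geometric fibre

Sources of the hypothesis `Lifts`: flat algebras with geometrically reduced fibres which descend to
a noetherian base, and arbitrary algebras over a field.
-/

universe u

open TensorProduct IsLocalRing

set_option backward.isDefEq.respectTransparency.types false

namespace Groth.Agent.GeomConn24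

/-- Fibres are geometrically reduced when all base changes to fields are reduced. -/
theorem geomReduced_fiber_of_fields {R S : Type u} [CommRing R] [CommRing S] [Algebra R S]
    (hL : ∀ (L : Type u) [Field L] [Algebra R L], _root_.IsReduced (L ⊗[R] S)) (p : Ideal R) [p.IsPrime] :
    Algebra.IsGeometricallyReduced p.ResidueField (p.Fiber S) := by
  rw [Algebra.isGeometricallyReduced_field_iff]
  haveI := hL (AlgebraicClosure p.ResidueField)
  exact isReduced_of_injective
    (Algebra.TensorProduct.cancelBaseChange R p.ResidueField (AlgebraicClosure p.ResidueField)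
      (AlgebraicClosure p.ResidueField) S) (AlgEquiv.injective _)

/-- The noetherian model: roots of `X² - cX` lie in the integral closure. -/
theorem range_of_model {R₂ S₂ A L : Type u} [CommRing R₂] [IsNoetherianRing R₂] [CommRing S₂] [Algebra R₂ S₂]
    [Module.Flat R₂ S₂] (hL : ∀ (K : Type u) [Field K] [Algebra R₂ K], _root_.IsReduced (K ⊗[R₂] S₂))
    [CommRing A] [Field L] [Algebra A L] [Algebra R₂ L] [Algebra R₂ (integralClosure A L)]
    [IsScalarTower R₂ (integralClosure A L) L]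
    (c : S₂ ⊗[R₂] (integralClosure A L)) (x : S₂ ⊗[R₂] L)
    (hx : x * x = Algebra.TensorProduct.map (AlgHom.id R₂ S₂)
      (IsScalarTower.toAlgHom R₂ (integralClosure A L) L) c * x) :
    ∃ w, Algebra.TensorProduct.map (AlgHom.id R₂ S₂) (IsScalarTower.toAlgHom R₂ (integralClosure A L) L) w = x := by
  let N := integralClosure A L
  let ι := Algebra.TensorProduct.map (AlgHom.id S₂ S₂) (IsScalarTower.toAlgHom R₂ N L)
  have h := NormalBC6.integralClosure_map (A := R₂) (A' := S₂) (fun p _ => geomReduced_fiber_of_fields hL p)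
    (B := N) (C := L)
  have hmem : x ∈ (integralClosure ι.range (S₂ ⊗[R₂] L) : Set (S₂ ⊗[R₂] L)) := by
    let c' : ι.range := ⟨ι c, c, rfl⟩
    refine ⟨Polynomial.X ^ 2 - Polynomial.C c' * Polynomial.X,
      Polynomial.monic_X_pow_sub ((Polynomial.degree_C_mul_X_le _).trans_lt (by norm_num)), ?_⟩
    simp only [Polynomial.eval₂_sub, Polynomial.eval₂_pow, Polynomial.eval₂_X, Polynomial.eval₂_mul, Polynomial.eval₂_C]
    rw [pow_two, sub_eq_zero]
    exact hx
  rw [h] at hmem
  obtain ⟨w, rfl⟩ := hmem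
  clear hx
  induction w using TensorProduct.induction_on with
  | zero => exact ⟨0, by rw [map_zero, map_zero]⟩
  | add v w hv hw =>
    obtain ⟨a, ha⟩ := hv
    obtain ⟨b, hb⟩ := hw
    exact ⟨a + b, by rw [map_add, map_add, ha, hb]⟩
  | tmul s y =>
    have hy : IsIntegral A (y : L) := isIntegral_trans (A := N) (y : L) y.2
    exact ⟨s ⊗ₜ ⟨(y : L), hy⟩, rfl⟩

/-- An algebra defined over a subring. -/
structure Model (R S' : Type u) [CommRing R] [CommRing S'] [Algebra R S'] where
  R₂ : Type u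
  S₂ : Type u
  [instR : CommRing R₂]
  [instS : CommRing S₂]
  [algR : Algebra R₂ R]
  [algS : Algebra R₂ S₂]
  ε : R ⊗[R₂] S₂ ≃ₐ[R] S'

attribute [instance] Model.instR Model.instS Model.algR Model.algS

section Cmp

variable {R S' : Type u} [CommRing R] [CommRing S'] [Algebra R S'] (D : Model R S')
  (M : Type u) [CommRing M] [Algebra R M] [Algebra D.R₂ M] [IsScalarTower D.R₂ R M]

/-- Base changes of an algebra and of its model agree. -/
noncomputable def Model.cmp : S' ⊗[R] M ≃+* D.S₂ ⊗[D.R₂] M :=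
  (Algebra.TensorProduct.comm R S' M).toRingEquiv.trans
    ((Algebra.TensorProduct.congr (AlgEquiv.refl : M ≃ₐ[R] M) D.ε.symm).toRingEquiv.trans
      ((Algebra.TensorProduct.cancelBaseChange D.R₂ R M M D.S₂).toRingEquiv.trans
        (Algebra.TensorProduct.comm D.R₂ M D.S₂).toRingEquiv))

lemma Model.cmp_tmul (r : R) (s : D.S₂) (m : M) :
    D.cmp M (D.ε (r ⊗ₜ s) ⊗ₜ m) = s ⊗ₜ (r • m) := by
  show Algebra.TensorProduct.comm D.R₂ M D.S₂
    (Algebra.TensorProduct.cancelBaseChange D.R₂ R M M D.S₂ (m ⊗ₜ[R] D.ε.symm (D.ε (r ⊗ₜ s)))) = _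
  rw [AlgEquiv.symm_apply_apply]
  exact congrArg (Algebra.TensorProduct.comm D.R₂ M D.S₂)
    (Algebra.TensorProduct.cancelBaseChange_tmul (R := D.R₂) (S := R) (T := M) (A := M) (B := D.S₂) _ _ _)

lemma Model.cmp_nat {M' : Type u} [CommRing M'] [Algebra R M'] [Algebra D.R₂ M'] [IsScalarTower D.R₂ R M']
    (h : M →ₐ[R] M') (v : S' ⊗[R] M) :
    D.cmp M' (Algebra.TensorProduct.map (AlgHom.id R S') h v) =
      Algebra.TensorProduct.map (AlgHom.id D.R₂ D.S₂) (h.restrictScalars D.R₂) (D.cmp M v) := by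
  induction v using TensorProduct.induction_on with
  | zero => simp only [map_zero]
  | add v w hv hw => simp only [map_add, hv, hw]
  | tmul s m =>
    obtain ⟨z, rfl⟩ := D.ε.surjective s
    induction z using TensorProduct.induction_on with
    | zero => simp only [map_zero, TensorProduct.zero_tmul]
    | add v w hv hw => simp only [map_add, TensorProduct.add_tmul, hv, hw]
    | tmul r s =>
      rw [Algebra.TensorProduct.map_tmul, AlgHom.id_apply, Model.cmp_tmul, Model.cmp_tmul,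
        Algebra.TensorProduct.map_tmul, AlgHom.id_apply, AlgHom.restrictScalars_apply, map_smul]

end Cmp

/-- A noetherian model with reduced base changes to fields gives the lifting. -/
theorem lifts_of_model {R S' A L : Type u} [CommRing R] [CommRing S'] [Algebra R S'] [CommRing A] [Algebra R A]
    [Field L] [Algebra A L] [Algebra R L] [IsScalarTower R A L] (D : Model R S') [IsNoetherianRing D.R₂]
    [Module.Flat D.R₂ D.S₂]
    (hred : ∀ (K : Type u) [Field K] [Algebra D.R₂ K], _root_.IsReduced (K ⊗[D.R₂] D.S₂)) :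
    Lifts R A L S' := by
  intro c x hx
  let N := integralClosure A L
  letI : Algebra D.R₂ L := ((algebraMap R L).comp (algebraMap D.R₂ R)).toAlgebra
  letI : Algebra D.R₂ N := ((algebraMap R N).comp (algebraMap D.R₂ R)).toAlgebra
  haveI : IsScalarTower D.R₂ R L := .of_algebraMap_eq fun _ => rfl
  haveI : IsScalarTower D.R₂ R N := .of_algebraMap_eq fun _ => rfl
  haveI : IsScalarTower D.R₂ N L := .of_algebraMap_eq fun r => IsScalarTower.algebraMap_apply R N L (algebraMap D.R₂ R r)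
  let cN : S' ⊗[R] N := Algebra.TensorProduct.map (AlgHom.id R S') (IsScalarTower.toAlgHom R A N) c
  have hnat := D.cmp_nat N (M' := L) (N.val.restrictScalars R)
  have hc : Algebra.TensorProduct.map (AlgHom.id R S') (N.val.restrictScalars R) cN =
      Algebra.TensorProduct.map (AlgHom.id R S') (IsScalarTower.toAlgHom R A L) c := by
    refine (AlgHom.congr_fun (Algebra.TensorProduct.map_comp _ _ _ _) c).symm.trans ?_
    rfl
  obtain ⟨w, hw⟩ := range_of_model (A := A) hred (D.cmp N cN) (D.cmp L x) (by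
    rw [← map_mul, hx, map_mul, ← hc, hnat]
    rfl)
  refine ⟨(D.cmp N).symm w, ?_⟩
  suffices Algebra.TensorProduct.map (AlgHom.id R S') (N.val.restrictScalars R) ((D.cmp N).symm w) = x by
    rw [this, sub_self]; exact IsNilpotent.zero
  refine (D.cmp L).injective ?_
  rw [hnat, RingEquiv.apply_symm_apply]
  exact hw

/-- An etale algebra over a base change comes from one over a base change to a finitely generated
subalgebra. -/
theorem exists_model_etale (R₀ R' : Type u) [CommRing R₀] [CommRing R'] [Algebra R₀ R'] [Module.Flat R₀ R']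
    {R S' : Type u} [CommRing R] [Algebra R₀ R] [CommRing S'] [Algebra (R ⊗[R₀] R') S'] [Algebra R S']
    [IsScalarTower R (R ⊗[R₀] R') S'] [Algebra.Etale (R ⊗[R₀] R') S'] :
    ∃ (D : Model R S') (_ : Algebra R₀ D.R₂) (_ : Algebra.FiniteType R₀ D.R₂)
      (_ : Algebra (D.R₂ ⊗[R₀] R') D.S₂) (_ : IsScalarTower D.R₂ (D.R₂ ⊗[R₀] R') D.S₂)
      (_ : Algebra.Etale (D.R₂ ⊗[R₀] R') D.S₂), IsScalarTower R₀ D.R₂ R := by
  classical
  let T := R ⊗[R₀] R'
  letI : Algebra R' T := Algebra.TensorProduct.rightAlgebra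
  obtain ⟨A₀, B₀, _, _, hfg, _, ⟨e₀⟩⟩ := Algebra.Etale.exists_subalgebra_fg (R := R') (A := T) (B := S')
  obtain ⟨gen, hgen⟩ := hfg
  choose tf htf using fun x : T => NormalBC6.exists_finset_tensor (A := R₀) (C := R) (A' := R') x
  obtain ⟨R₂, _, _, _, _, _, hinj, hsub⟩ : ∃ (R₂ : Type u) (_ : CommRing R₂) (_ : Algebra R₀ R₂) (_ : Algebra R₂ R)
      (_ : IsScalarTower R₀ R₂ R) (_ : Algebra.FiniteType R₀ R₂),
      Function.Injective (algebraMap R₂ R) ∧
        ∀ x ∈ gen.biUnion tf, x ∈ Set.range (algebraMap R₂ R) :=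
    ⟨Algebra.adjoin R₀ ((gen.biUnion tf : Finset R) : Set R), inferInstance, inferInstance, inferInstance,
      inferInstance, (Subalgebra.fg_iff_finiteType _).1 (Subalgebra.fg_adjoin_finset _), Subtype.val_injective,
      fun x hx => ⟨⟨x, Algebra.subset_adjoin hx⟩, rfl⟩⟩
  let T₂ := R₂ ⊗[R₀] R'
  letI : Algebra R' T₂ := Algebra.TensorProduct.rightAlgebra
  let incl : R₂ →ₐ[R₀] R := IsScalarTower.toAlgHom R₀ R₂ R
  let j₀ : T₂ →ₐ[R₀] T := Algebra.TensorProduct.map incl (AlgHom.id R₀ R')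
  have hj₀ : Function.Injective j₀ :=
    Module.Flat.rTensor_preserves_injective_linearMap (M := R') incl.toLinearMap hinj
  let j : T₂ →ₐ[R'] T := { j₀.toRingHom with
    commutes' := fun r => by
      show j₀ ((1 : R₂) ⊗ₜ[R₀] r) = (1 : R) ⊗ₜ[R₀] r
      exact (Algebra.TensorProduct.map_tmul incl (AlgHom.id R₀ R') 1 r).trans (by rw [map_one]; rfl) }
  have hA₀ : A₀ ≤ j.range := by
    rw [← hgen]
    refine Algebra.adjoin_le fun x hx => ?_
    obtain ⟨w, hw⟩ := htf x (LinearMap.range incl.toLinearMap) fun a ha =>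
      hsub a (Finset.mem_biUnion.2 ⟨x, hx, ha⟩)
    subst hw
    clear hx
    induction w using TensorProduct.induction_on with
    | zero => rw [map_zero]; exact zero_mem j.range
    | add v w hv hw => rw [map_add]; exact add_mem hv hw
    | tmul a r =>
      obtain ⟨a', ha'⟩ := a.2
      refine ⟨a' ⊗ₜ r, ?_⟩
      show j₀ (a' ⊗ₜ r) = (a : R) ⊗ₜ r
      rw [← ha']
      rfl
  let k : A₀ →ₐ[R'] T₂ := (AlgEquiv.ofInjective j hj₀).symm.toAlgHom.comp (Subalgebra.inclusion hA₀)
  have hk : ∀ a, j (k a) = a := fun a =>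
    congrArg Subtype.val ((AlgEquiv.ofInjective j hj₀).apply_symm_apply (Subalgebra.inclusion hA₀ a))
  letI : Algebra A₀ T₂ := k.toRingHom.toAlgebra
  letI : Algebra T₂ T := j₀.toRingHom.toAlgebra
  haveI : IsScalarTower A₀ T₂ T := .of_algebraMap_eq fun a => (hk a).symm
  haveI : IsScalarTower R₂ T₂ T := .of_algebraMap_eq fun r => by
    show algebraMap R₂ R r ⊗ₜ[R₀] (1 : R') = j₀ (r ⊗ₜ[R₀] (1 : R'))
    exact ((Algebra.TensorProduct.map_tmul incl (AlgHom.id R₀ R') r 1).trans rfl).symm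
  haveI : Algebra.IsPushout R₂ R T₂ T := Algebra.IsPushout.tensorProduct_tensorProduct R₀ R' R₂ R (by
    ext r
    show j₀ ((1 : R₂) ⊗ₜ[R₀] r) = (1 : R) ⊗ₜ[R₀] r
    exact (Algebra.TensorProduct.map_tmul incl (AlgHom.id R₀ R') 1 r).trans (by rw [map_one]; rfl))
  obtain ⟨S₂, _, _, _, _, hS₂, ⟨e₂⟩⟩ : ∃ (S₂ : Type u) (_ : CommRing S₂) (_ : Algebra T₂ S₂) (_ : Algebra R₂ S₂)
      (_ : IsScalarTower R₂ T₂ S₂) (_ : Algebra.Etale T₂ S₂), Nonempty (T ⊗[T₂] S₂ ≃ₐ[T] S') :=
    ⟨T₂ ⊗[A₀] B₀, inferInstance, inferInstance, inferInstance, inferInstance, inferInstance,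
      ⟨(Algebra.TensorProduct.cancelBaseChange A₀ T₂ T T B₀).trans e₀.symm⟩⟩
  exact ⟨{ R₂ := R₂, S₂ := S₂,
           ε := (Algebra.IsPushout.cancelBaseChangeAlg R₂ R T₂ T S₂).symm.trans (e₂.restrictScalars R) },
    inferInstanceAs (Algebra R₀ R₂), ‹Algebra.FiniteType R₀ R₂›, inferInstanceAs (Algebra T₂ S₂),
    ‹IsScalarTower R₂ T₂ S₂›, hS₂, ‹IsScalarTower R₀ R₂ R›⟩

/-- Flat algebras with geometrically reduced fibres over a noetherian ring, after base change. -/
theorem lifts_noetherian (R₀ R' : Type u) [CommRing R₀] [IsNoetherianRing R₀] [CommRing R'] [Algebra R₀ R']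
    [Module.Flat R₀ R'] (hred : ∀ (K : Type u) [Field K] [Algebra R₀ K], _root_.IsReduced (K ⊗[R₀] R'))
    {R S' A L : Type u} [CommRing R] [Algebra R₀ R] [CommRing S'] [Algebra (R ⊗[R₀] R') S'] [Algebra R S']
    [IsScalarTower R (R ⊗[R₀] R') S'] [Algebra.Etale (R ⊗[R₀] R') S'] [CommRing A] [Algebra R A] [Field L]
    [Algebra A L] [Algebra R L] [IsScalarTower R A L] : Lifts R A L S' := by
  obtain ⟨D, _, _, _, _, _, _⟩ := exists_model_etale R₀ R' (R := R) (S' := S')
  haveI : IsNoetherianRing D.R₂ := Algebra.FiniteType.isNoetherianRing R₀ D.R₂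
  haveI : Module.Flat D.R₂ D.S₂ := Module.Flat.trans D.R₂ (D.R₂ ⊗[R₀] R') D.S₂
  refine lifts_of_model D fun K _ _ => ?_
  letI : Algebra R₀ K := ((algebraMap D.R₂ K).comp (algebraMap R₀ D.R₂)).toAlgebra
  haveI : IsScalarTower R₀ D.R₂ K := .of_algebraMap_eq fun _ => rfl
  haveI := hred K
  haveI : _root_.IsReduced ((D.R₂ ⊗[R₀] R') ⊗[D.R₂] K) :=
    isReduced_of_injective
      ((Algebra.TensorProduct.comm D.R₂ (D.R₂ ⊗[R₀] R') K).toRingEquiv.trans
        (Algebra.TensorProduct.cancelBaseChange R₀ D.R₂ K K R').toRingEquiv) (RingEquiv.injective _)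
  haveI : _root_.IsReduced (D.S₂ ⊗[D.R₂] K) := isReduced_tensor_of_etale (R₁ := D.R₂ ⊗[R₀] R')
  exact isReduced_of_injective (Algebra.TensorProduct.comm D.R₂ K D.S₂) (AlgEquiv.injective _)

/-- Flat algebras of finite presentation with geometrically reduced fibres. -/
theorem lifts_finitePresentation {R S' A L : Type u} [CommRing R] [CommRing S'] [Algebra R S']
    [Algebra.FinitePresentation R S'] [Module.Flat R S']
    (hred : ∀ (K : Type u) [Field K] [Algebra R K], _root_.IsReduced (S' ⊗[R] K))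
    [CommRing A] [Algebra R A] [Field L] [Algebra A L] [Algebra R L] [IsScalarTower R A L] :
    Lifts R A L S' := by
  obtain ⟨A₀, C₀, _, _, _, _, A₁, -, hnoeth, hflat, ⟨ε⟩, hL⟩ := exists_model hred
  haveI := hnoeth
  haveI := hflat
  let D : Model R S' :=
    { R₂ := A₁, S₂ := A₁ ⊗[A₀] C₀, ε := (Algebra.TensorProduct.cancelBaseChange A₀ A₁ R R C₀).trans ε }
  haveI : IsNoetherianRing D.R₂ := hnoeth
  haveI : Module.Flat D.R₂ D.S₂ := inferInstanceAs (Module.Flat A₁ (A₁ ⊗[A₀] C₀))
  refine lifts_of_model D fun K _ algK => ?_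
  letI : Algebra A₁ K := algK
  letI : Algebra A₀ K := ((algebraMap A₁ K).comp (algebraMap A₀ A₁)).toAlgebra
  haveI : IsScalarTower A₀ A₁ K := .of_algebraMap_eq fun _ => rfl
  haveI := hL K
  exact isReduced_of_injective (Algebra.TensorProduct.cancelBaseChange A₀ A₁ K K C₀) (AlgEquiv.injective _)

section OverField

open IntermediateField

variable (k R' : Type u) [Field k] [CommRing R'] [Algebra k R']

set_option maxHeartbeats 1000000 in
/-- Over a field all algebras have the lifting, given a perfect extension inside the integral closure. -/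
theorem lifts_field_of {R S' A L : Type u} [CommRing R] [Algebra k R] [CommRing S'] [Algebra (R ⊗[k] R') S']
    [Algebra R S'] [IsScalarTower R (R ⊗[k] R') S'] [Algebra.Etale (R ⊗[k] R') S'] [CommRing A] [Algebra R A]
    [Field L] [Algebra A L] [Algebra R L] [IsScalarTower R A L]
    (kp : Type u) [Field kp] [PerfectField kp] [Algebra k kp] (ν : kp →+* integralClosure A L)
    (hν : ∀ r : k, (ν (algebraMap k kp r) : L) = algebraMap R L (algebraMap k R r)) : Lifts R A L S' := by
  classical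
  intro c x hx
  obtain ⟨D, _, _, _, _, _, _⟩ := exists_model_etale k R' (R := R) (S' := S')
  let N := integralClosure A L
  letI : Algebra D.R₂ L := ((algebraMap R L).comp (algebraMap D.R₂ R)).toAlgebra
  letI : Algebra D.R₂ N := ((algebraMap R N).comp (algebraMap D.R₂ R)).toAlgebra
  haveI : IsScalarTower D.R₂ R L := .of_algebraMap_eq fun _ => rfl
  haveI : IsScalarTower D.R₂ R N := .of_algebraMap_eq fun _ => rfl
  haveI : IsScalarTower D.R₂ N L := .of_algebraMap_eq fun r => IsScalarTower.algebraMap_apply R N L (algebraMap D.R₂ R r)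
  letI : Algebra kp N := ν.toAlgebra
  letI : Algebra k N := ((algebraMap D.R₂ N).comp (algebraMap k D.R₂)).toAlgebra
  haveI : IsScalarTower k D.R₂ N := .of_algebraMap_eq fun _ => rfl
  haveI : IsScalarTower k kp N := .of_algebraMap_eq fun r => Subtype.ext (by
    show ((algebraMap R N (algebraMap D.R₂ R (algebraMap k D.R₂ r)) : N) : L) = (ν (algebraMap k kp r) : L)
    rw [← IsScalarTower.algebraMap_apply k D.R₂ R, hν]
    rfl)
  -- the perfected model
  let R₃ := kp ⊗[k] D.R₂
  obtain ⟨R'', _, _, _, _, hR'', q'', hq, hker⟩ : ∃ (R'' : Type u) (_ : CommRing R'') (_ : Algebra kp R'')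
      (_ : Algebra k R'') (_ : IsScalarTower k kp R'') (_ : _root_.IsReduced R'') (q : kp ⊗[k] R' →ₐ[kp] R''),
      Function.Surjective q ∧ ∀ a, q a = 0 → IsNilpotent a :=
    ⟨(kp ⊗[k] R') ⧸ nilradical (kp ⊗[k] R'), inferInstance, inferInstance, inferInstance, inferInstance,
      (Ideal.isRadical_iff_quotient_reduced _).1 (Ideal.radical_isRadical _),
      Ideal.Quotient.mkₐ kp _, Ideal.Quotient.mk_surjective,
      fun _ h => mem_nilradical.1 (Ideal.Quotient.eq_zero_iff_mem.1 h)⟩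
  let T₃ := R₃ ⊗[kp] R''
  let qR : R' →ₐ[k] R'' :=
    (q''.restrictScalars k).comp (Algebra.TensorProduct.includeRight : R' →ₐ[k] kp ⊗[k] R')
  let τT : D.R₂ ⊗[k] R' →ₐ[k] T₃ :=
    Algebra.TensorProduct.lift
      (((Algebra.TensorProduct.includeLeft : R₃ →ₐ[kp] T₃).restrictScalars k).comp
        (Algebra.TensorProduct.includeRight : D.R₂ →ₐ[k] R₃))
      (((Algebra.TensorProduct.includeRight : R'' →ₐ[kp] T₃).restrictScalars k).comp qR) fun _ _ => mul_comm _ _
  letI : Algebra (D.R₂ ⊗[k] R') T₃ := τT.toRingHom.toAlgebra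
  have hτ₁ : ∀ r : D.R₂, τT (r ⊗ₜ[k] (1 : R')) = algebraMap R₃ T₃ ((1 : kp) ⊗ₜ[k] r) := fun r => by
    refine (Algebra.TensorProduct.lift_tmul _ _ _ _ _).trans ?_
    rw [map_one, mul_one]
    rfl
  have hτ₂ : ∀ s : R', τT ((1 : D.R₂) ⊗ₜ[k] s) = (1 : R₃) ⊗ₜ[kp] qR s := fun s => by
    refine (Algebra.TensorProduct.lift_tmul _ _ _ _ _).trans ?_
    rw [map_one, one_mul]
    rfl
  obtain ⟨S₃, _, _, _, hT₃, hetS₃, iS, hiT, hgen, hext⟩ : ∃ (S₃ : Type u) (_ : CommRing S₃) (_ : Algebra T₃ S₃)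
      (_ : Algebra R₃ S₃) (_ : IsScalarTower R₃ T₃ S₃) (_ : Algebra.Etale T₃ S₃) (iS : D.S₂ →+* S₃),
      (∀ w, iS (algebraMap (D.R₂ ⊗[k] R') D.S₂ w) = algebraMap T₃ S₃ (τT w)) ∧
      (∀ (P : Subring S₃), (∀ t, algebraMap T₃ S₃ t ∈ P) → (∀ s, iS s ∈ P) → P = ⊤) ∧
      ∀ (F : Type u) [CommRing F] (f : T₃ →+* F) (g : D.S₂ →+* F),
        (∀ w, f (τT w) = g (algebraMap (D.R₂ ⊗[k] R') D.S₂ w)) →
        ∃ h : S₃ →+* F, (∀ t, h (algebraMap T₃ S₃ t) = f t) ∧ ∀ s, h (iS s) = g s := by
    refine ⟨T₃ ⊗[D.R₂ ⊗[k] R'] D.S₂, inferInstance, inferInstance, inferInstance, inferInstance, inferInstance,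
      (Algebra.TensorProduct.includeRight : D.S₂ →ₐ[D.R₂ ⊗[k] R'] T₃ ⊗[D.R₂ ⊗[k] R'] D.S₂).toRingHom,
      fun w => (Algebra.TensorProduct.includeRight : D.S₂ →ₐ[D.R₂ ⊗[k] R'] T₃ ⊗[D.R₂ ⊗[k] R'] D.S₂).commutes w,
      fun P hT hS => ?_, fun F _ f g hfg => ?_⟩
    · refine eq_top_iff.2 fun v _ => ?_
      induction v using TensorProduct.induction_on with
      | zero => exact zero_mem _
      | add v w hv hw => exact add_mem (hv trivial) (hw trivial)
      | tmul t s =>
        have h2 := mul_mem (hT t) (hS s)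
        change (t ⊗ₜ[D.R₂ ⊗[k] R'] (1 : D.S₂)) * ((1 : T₃) ⊗ₜ[D.R₂ ⊗[k] R'] s) ∈ P at h2
        rwa [Algebra.TensorProduct.tmul_mul_tmul, mul_one, one_mul] at h2
    · letI : Algebra (D.R₂ ⊗[k] R') F := (f.comp τT.toRingHom).toAlgebra
      let f' : T₃ →ₐ[D.R₂ ⊗[k] R'] F := { f with commutes' := fun _ => rfl }
      let g' : D.S₂ →ₐ[D.R₂ ⊗[k] R'] F := { g with commutes' := fun w => (hfg w).symm }
      refine ⟨(Algebra.TensorProduct.lift f' g' fun _ _ => mul_comm _ _).toRingHom, fun t => ?_, fun s => ?_⟩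
      · show Algebra.TensorProduct.lift f' g' _ (t ⊗ₜ 1) = f t
        rw [Algebra.TensorProduct.lift_tmul, map_one, mul_one]; rfl
      · show Algebra.TensorProduct.lift f' g' _ (1 ⊗ₜ s) = g s
        rw [Algebra.TensorProduct.lift_tmul, map_one, one_mul]; rfl
  haveI : IsNoetherianRing R₃ := Algebra.FiniteType.isNoetherianRing kp R₃
  haveI : Module.Flat R₃ S₃ := Module.Flat.trans R₃ T₃ S₃
  have hred : ∀ (K : Type u) [Field K] [Algebra R₃ K], _root_.IsReduced (K ⊗[R₃] S₃) := fun K _ _ => by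
    letI : Algebra kp K := ((algebraMap R₃ K).comp (algebraMap kp R₃)).toAlgebra
    haveI : IsScalarTower kp R₃ K := .of_algebraMap_eq fun _ => rfl
    haveI := hR''
    haveI : _root_.IsReduced (R'' ⊗[kp] K) := GeomRed.isReduced_tensor_of_perfectField (k := kp) R'' K
    haveI : _root_.IsReduced (K ⊗[kp] R'') :=
      isReduced_of_injective (Algebra.TensorProduct.comm kp K R'') (AlgEquiv.injective _)
    haveI : _root_.IsReduced (T₃ ⊗[R₃] K) := isReduced_of_injective
      ((Algebra.TensorProduct.comm R₃ T₃ K).toRingEquiv.trans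
        (Algebra.TensorProduct.cancelBaseChange kp R₃ K K R'').toRingEquiv) (RingEquiv.injective _)
    haveI : _root_.IsReduced (S₃ ⊗[R₃] K) := isReduced_tensor_of_etale (R₁ := T₃)
    exact isReduced_of_injective (Algebra.TensorProduct.comm R₃ K S₃) (AlgEquiv.injective _)
  let γN : R₃ →ₐ[k] N :=
    Algebra.TensorProduct.lift (IsScalarTower.toAlgHom k kp N) (IsScalarTower.toAlgHom k D.R₂ N) fun _ _ => mul_comm _ _
  letI : Algebra R₃ N := γN.toRingHom.toAlgebra
  letI : Algebra R₃ L := ((algebraMap N L).comp γN.toRingHom).toAlgebra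
  haveI : IsScalarTower R₃ N L := .of_algebraMap_eq fun _ => rfl
  have hiS : ∀ r : D.R₂, iS (algebraMap D.R₂ D.S₂ r) = algebraMap R₃ S₃ ((1 : kp) ⊗ₜ[k] r) := by
    intro r
    rw [IsScalarTower.algebraMap_apply D.R₂ (D.R₂ ⊗[k] R') D.S₂, hiT, IsScalarTower.algebraMap_apply R₃ T₃ S₃]
    refine congrArg _ ?_
    exact hτ₁ r
  -- the comparison maps
  have mk : ∀ (M : Type u) [CommRing M] [Algebra D.R₂ M] [Algebra R₃ M]
      (hM : ∀ r : D.R₂, algebraMap R₃ M ((1 : kp) ⊗ₜ[k] r) = algebraMap D.R₂ M r),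
      ∃ τ : D.S₂ ⊗[D.R₂] M →+* S₃ ⊗[R₃] M,
        (∀ s m, τ (s ⊗ₜ m) = iS s ⊗ₜ[R₃] m) ∧ Function.Surjective τ ∧ ∀ v, τ v = 0 → IsNilpotent v := by
    intro M _ _ _ hM
    letI : Algebra D.R₂ (S₃ ⊗[R₃] M) :=
      ((Algebra.TensorProduct.includeRight : M →ₐ[R₃] S₃ ⊗[R₃] M).toRingHom.comp (algebraMap D.R₂ M)).toAlgebra
    let a : D.S₂ →ₐ[D.R₂] S₃ ⊗[R₃] M :=
      { (Algebra.TensorProduct.includeLeftRingHom : S₃ →+* S₃ ⊗[R₃] M).comp iS with
        commutes' := fun r => by
          show iS (algebraMap D.R₂ D.S₂ r) ⊗ₜ[R₃] (1 : M) = (1 : S₃) ⊗ₜ[R₃] algebraMap D.R₂ M r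
          rw [hiS, Algebra.algebraMap_eq_smul_one (A := S₃), TensorProduct.smul_tmul, Algebra.smul_def, mul_one, hM] }
    let b : M →ₐ[D.R₂] S₃ ⊗[R₃] M :=
      { (Algebra.TensorProduct.includeRight : M →ₐ[R₃] S₃ ⊗[R₃] M).toRingHom with commutes' := fun _ => rfl }
    let τ := (Algebra.TensorProduct.lift a b fun _ _ => mul_comm _ _).toRingHom
    have hτ : ∀ s m, τ (s ⊗ₜ m) = iS s ⊗ₜ[R₃] m := fun s m => by
      show Algebra.TensorProduct.lift a b _ (s ⊗ₜ m) = _
      rw [Algebra.TensorProduct.lift_tmul]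
      show (iS s ⊗ₜ[R₃] (1 : M)) * ((1 : S₃) ⊗ₜ[R₃] m) = _
      rw [Algebra.TensorProduct.tmul_mul_tmul, mul_one, one_mul]
    refine ⟨τ, hτ, ?_, ?_⟩
    · -- surjective
      have hT : ∀ t : T₃, (algebraMap T₃ S₃ t) ⊗ₜ[R₃] (1 : M) ∈ τ.range := by
        intro t
        induction t using TensorProduct.induction_on with
        | zero => rw [map_zero, TensorProduct.zero_tmul]; exact zero_mem _
        | add v w hv hw => rw [map_add, TensorProduct.add_tmul]; exact add_mem hv hw
        | tmul r₃ q =>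
          obtain ⟨q, rfl⟩ := hq q
          induction q using TensorProduct.induction_on with
          | zero => rw [map_zero, TensorProduct.tmul_zero, map_zero, TensorProduct.zero_tmul]; exact zero_mem _
          | add v w hv hw =>
            rw [map_add, TensorProduct.tmul_add, map_add, TensorProduct.add_tmul]; exact add_mem hv hw
          | tmul z r =>
            let r₄ : R₃ := r₃ * algebraMap kp R₃ z
            have e : r₃ ⊗ₜ[kp] q'' (z ⊗ₜ[k] r) = algebraMap R₃ T₃ r₄ * τT ((1 : D.R₂) ⊗ₜ[k] r) := by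
              have e1 : q'' (z ⊗ₜ[k] r) = z • qR r := by
                show _ = z • q'' ((1 : kp) ⊗ₜ[k] r)
                rw [← map_smul, TensorProduct.smul_tmul', smul_eq_mul, mul_one]
              rw [hτ₂, e1, TensorProduct.tmul_smul,
                TensorProduct.smul_tmul']
              show (z • r₃) ⊗ₜ[kp] qR r = (r₄ ⊗ₜ[kp] 1) * ((1 : R₃) ⊗ₜ[kp] qR r)
              rw [Algebra.TensorProduct.tmul_mul_tmul, mul_one, one_mul, Algebra.smul_def, mul_comm]
            refine ⟨algebraMap (D.R₂ ⊗[k] R') D.S₂ ((1 : D.R₂) ⊗ₜ[k] r) ⊗ₜ algebraMap R₃ M r₄, ?_⟩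
            rw [hτ, e, (algebraMap T₃ S₃).map_mul, ← IsScalarTower.algebraMap_apply R₃ T₃ S₃, ← hiT, ← Algebra.smul_def,
              Algebra.algebraMap_eq_smul_one (A := M), TensorProduct.tmul_smul, TensorProduct.smul_tmul']
      intro v
      induction v using TensorProduct.induction_on with
      | zero => exact ⟨0, map_zero τ⟩
      | add v w hv hw =>
        obtain ⟨v', rfl⟩ := hv
        obtain ⟨w', rfl⟩ := hw
        exact ⟨v' + w', map_add τ _ _⟩
      | tmul s m =>
        suffices s ⊗ₜ[R₃] (1 : M) ∈ τ.range by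
          have h2 := mul_mem this (show (1 : S₃) ⊗ₜ[R₃] m ∈ τ.range from ⟨1 ⊗ₜ m, by rw [hτ, map_one]⟩)
          rw [Algebra.TensorProduct.tmul_mul_tmul, mul_one, one_mul] at h2
          exact h2
        let P : Subring S₃ := τ.range.comap (Algebra.TensorProduct.includeLeftRingHom : S₃ →+* S₃ ⊗[R₃] M)
        have hP : P = ⊤ := hgen P hT fun s => ⟨s ⊗ₜ 1, hτ s 1⟩
        exact (hP ▸ Subring.mem_top s : s ∈ P)
    · -- nilpotent kernel
      intro v hv
      rw [nilpotent_iff_mem_prime]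
      intro P hP
      let F := (D.S₂ ⊗[D.R₂] M) ⧸ P
      let q : D.S₂ ⊗[D.R₂] M →+* F := Ideal.Quotient.mk P
      let ψS : D.S₂ →+* F := q.comp Algebra.TensorProduct.includeLeftRingHom
      let ψM : M →+* F := q.comp (Algebra.TensorProduct.includeRight : M →ₐ[D.R₂] D.S₂ ⊗[D.R₂] M).toRingHom
      let ψ₃ : R₃ →+* F := ψM.comp (algebraMap R₃ M)
      letI : Algebra kp F := (ψ₃.comp (algebraMap kp R₃)).toAlgebra
      letI : Algebra k F := ((algebraMap kp F).comp (algebraMap k kp)).toAlgebra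
      haveI : IsScalarTower k kp F := .of_algebraMap_eq fun _ => rfl
      have hR₂ : ∀ r : D.R₂, ψS (algebraMap D.R₂ D.S₂ r) = ψ₃ ((1 : kp) ⊗ₜ[k] r) := fun r => by
        show q (algebraMap D.R₂ D.S₂ r ⊗ₜ (1 : M)) = q ((1 : D.S₂) ⊗ₜ algebraMap R₃ M ((1 : kp) ⊗ₜ[k] r))
        rw [hM, Algebra.algebraMap_eq_smul_one (A := D.S₂), TensorProduct.smul_tmul, Algebra.smul_def, mul_one]
      let ψR' : R' →ₐ[k] F :=
        { ψS.comp ((algebraMap (D.R₂ ⊗[k] R') D.S₂).comp
            (Algebra.TensorProduct.includeRight : R' →ₐ[k] D.R₂ ⊗[k] R').toRingHom) with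
          commutes' := fun r => by
            show ψS (algebraMap _ D.S₂ ((Algebra.TensorProduct.includeRight : R' →ₐ[k] D.R₂ ⊗[k] R') (algebraMap k R' r))) =
              ψ₃ (algebraMap kp R₃ (algebraMap k kp r))
            rw [AlgHom.commutes, IsScalarTower.algebraMap_apply k D.R₂ (D.R₂ ⊗[k] R'),
              ← IsScalarTower.algebraMap_apply D.R₂ (D.R₂ ⊗[k] R') D.S₂, hR₂]
            refine congrArg ψ₃ ?_
            show (1 : kp) ⊗ₜ[k] algebraMap k D.R₂ r = algebraMap k kp r ⊗ₜ[k] 1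
            rw [Algebra.algebraMap_eq_smul_one, Algebra.algebraMap_eq_smul_one, TensorProduct.smul_tmul] }
      let ψkR' : kp ⊗[k] R' →ₐ[kp] F := Algebra.TensorProduct.lift (Algebra.ofId kp F) ψR' fun _ _ => mul_comm _ _
      let ψ'' : R'' →ₐ[kp] F := AlgHom.liftOfSurjective q'' hq ψkR' fun a ha =>
        (IsNilpotent.map (hker a ha) ψkR').eq_zero
      let ψR₃ : R₃ →ₐ[kp] F := { ψ₃ with commutes' := fun _ => rfl }
      let ψT : T₃ →ₐ[kp] F := Algebra.TensorProduct.lift ψR₃ ψ'' fun _ _ => mul_comm _ _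
      have hψT : ψT.toRingHom.comp τT.toRingHom = ψS.comp (algebraMap (D.R₂ ⊗[k] R') D.S₂) := by
        refine RingHom.ext fun w => ?_
        induction w using TensorProduct.induction_on with
        | zero => simp only [map_zero]
        | add v w hv hw => simp only [map_add, hv, hw]
        | tmul r s =>
          show ψT (τT (r ⊗ₜ s)) = ψS (algebraMap _ D.S₂ (r ⊗ₜ s))
          rw [show r ⊗ₜ[k] s = algebraMap D.R₂ (D.R₂ ⊗[k] R') r * ((1 : D.R₂) ⊗ₜ s) by
            show _ = (r ⊗ₜ 1) * _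
            rw [Algebra.TensorProduct.tmul_mul_tmul, mul_one, one_mul], map_mul (algebraMap _ D.S₂),
            ← IsScalarTower.algebraMap_apply, map_mul ψS, hR₂, map_mul, map_mul]
          refine congrArg₂ (· * ·) ?_ ?_
          · show ψT (τT (r ⊗ₜ[k] 1)) = _
            refine ((congrArg ψT (hτ₁ r)).trans (Algebra.TensorProduct.lift_tmul _ _ _ _ _)).trans ?_
            rw [map_one, mul_one]
            rfl
          · show ψT (τT ((1 : D.R₂) ⊗ₜ[k] s)) = ψR' s
            rw [hτ₂, Algebra.TensorProduct.lift_tmul, map_one, one_mul]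
            refine (AlgHom.liftOfSurjective_apply q'' hq ψkR' _ _).trans ?_
            simp [ψkR']
      obtain ⟨ψS₃, hψ₁, hψ₂⟩ := hext F ψT.toRingHom ψS (RingHom.congr_fun hψT)
      letI : Algebra R₃ F := ψ₃.toAlgebra
      let ψS₃' : S₃ →ₐ[R₃] F := { ψS₃ with
        commutes' := fun r => by
          show ψS₃ (algebraMap R₃ S₃ r) = ψ₃ r
          rw [IsScalarTower.algebraMap_apply R₃ T₃ S₃, hψ₁]
          show ψT (r ⊗ₜ[kp] 1) = _
          rw [Algebra.TensorProduct.lift_tmul, map_one, mul_one]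
          rfl }
      let ψM' : M →ₐ[R₃] F := { ψM with commutes' := fun _ => rfl }
      let Ψ := Algebra.TensorProduct.lift ψS₃' ψM' fun _ _ => mul_comm _ _
      have hΨ : ∀ v, Ψ (τ v) = q v := by
        intro v
        induction v using TensorProduct.induction_on with
        | zero => simp
        | add v w hv hw => simp only [map_add, hv, hw]
        | tmul s m =>
          rw [hτ, Algebra.TensorProduct.lift_tmul]
          show ψS₃ (iS s) * ψM m = _
          rw [hψ₂]
          show q (s ⊗ₜ 1) * q ((1 : D.S₂) ⊗ₜ m) = _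
          rw [← map_mul, Algebra.TensorProduct.tmul_mul_tmul, mul_one, one_mul]
      refine Ideal.Quotient.eq_zero_iff_mem.1 ((hΨ v).symm.trans ?_)
      rw [hv, map_zero]
  have hγ : ∀ r : D.R₂, γN ((1 : kp) ⊗ₜ[k] r) = algebraMap D.R₂ N r := fun r =>
    (Algebra.TensorProduct.lift_tmul _ _ _ _ _).trans (by rw [map_one, one_mul]; rfl)
  obtain ⟨τN, hτN, hτNs, -⟩ := mk N hγ
  obtain ⟨τL, hτL, -, hτLk⟩ := mk L fun r =>
    (congrArg (algebraMap N L) (hγ r)).trans (IsScalarTower.algebraMap_apply D.R₂ N L r).symm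
  have hττ : ∀ v, τL (Algebra.TensorProduct.map (AlgHom.id D.R₂ D.S₂) (IsScalarTower.toAlgHom D.R₂ N L) v) =
      Algebra.TensorProduct.map (AlgHom.id R₃ S₃) (IsScalarTower.toAlgHom R₃ N L) (τN v) := by
    intro v
    induction v using TensorProduct.induction_on with
    | zero => simp only [map_zero]
    | add v w hv hw => simp only [map_add, hv, hw]
    | tmul s m => rw [Algebra.TensorProduct.map_tmul, hτL, hτN, Algebra.TensorProduct.map_tmul]; rfl
  let cN : S' ⊗[R] N := Algebra.TensorProduct.map (AlgHom.id R S') (IsScalarTower.toAlgHom R A N) c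
  have hnat := D.cmp_nat N (M' := L) (N.val.restrictScalars R)
  have hc : Algebra.TensorProduct.map (AlgHom.id R S') (N.val.restrictScalars R) cN =
      Algebra.TensorProduct.map (AlgHom.id R S') (IsScalarTower.toAlgHom R A L) c := by
    refine (AlgHom.congr_fun (Algebra.TensorProduct.map_comp _ _ _ _) c).symm.trans ?_
    rfl
  obtain ⟨w₃, hw₃⟩ := range_of_model (A := A) hred (τN (D.cmp N cN)) (τL (D.cmp L x)) (by
    rw [← map_mul, ← map_mul, hx, map_mul, map_mul, ← hc, hnat, ← hττ]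
    rfl)
  obtain ⟨w₂, rfl⟩ := hτNs w₃
  refine ⟨(D.cmp N).symm w₂, ?_⟩
  rw [← IsNilpotent.map_iff (f := D.cmp L) (D.cmp L).injective, map_sub, hnat, RingEquiv.apply_symm_apply]
  refine hτLk _ ?_
  rw [map_sub, sub_eq_zero]
  exact (hττ w₂).trans hw₃

set_option maxHeartbeats 1000000 in
/-- Over a field all algebras have the lifting, up to nilpotents. -/
theorem lifts_field {R S' A L : Type u} [CommRing R] [Algebra k R] [CommRing S'] [Algebra (R ⊗[k] R') S']
    [Algebra R S'] [IsScalarTower R (R ⊗[k] R') S'] [Algebra.Etale (R ⊗[k] R') S'] [CommRing A] [Algebra R A]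
    [Field L] [IsAlgClosed L] [Algebra A L] [Algebra R L] [IsScalarTower R A L] : Lifts R A L S' := by
  letI : Algebra k L := ((algebraMap R L).comp (algebraMap k R)).toAlgebra
  haveI : PerfectField L := inferInstance
  haveI : PerfectRing L (ringExpChar L) := PerfectField.toPerfectRing _
  haveI : PerfectField (perfectClosure k L) := inferInstance
  have hint : ∀ z : perfectClosure k L, (z : L) ∈ integralClosure A L := fun z => by
    obtain ⟨p, hp, hev⟩ := Algebra.IsIntegral.isIntegral (R := k) (z : perfectClosure k L)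
    refine ⟨p.map ((algebraMap R A).comp (algebraMap k R)), hp.map _, ?_⟩
    rw [Polynomial.eval₂_map, ← RingHom.comp_assoc, ← IsScalarTower.algebraMap_eq]
    have h' := congrArg (algebraMap (perfectClosure k L) L) hev
    rw [map_zero, Polynomial.hom_eval₂] at h'
    exact h'
  exact lifts_field_of k R' (perfectClosure k L)
    ((algebraMap (perfectClosure k L) L).codRestrict (integralClosure A L).toSubring hint) fun _ => rfl

end OverField

end Groth.Agent.GeomConn24
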