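import Groth.Agent.Lib.GeomConn24.IdemLift
import Groth.Agent.Lib.ShFlat24.EtaleFlat
import Groth.Agent.Lib.ProperPush24.Model
import Groth.Agent.Lib.HensH7.Integral
import Groth.Agent.Lib.Hens.Reduced
import Groth.Agent.S2785
import Mathlib

/-!
# Strictly local geometric fibres of flat maps with geometrically reduced fibres are connected
-/

universe u

open CategoryTheory CategoryTheory.Limits AlgebraicGeometry IsLocalRing TensorProduct Groth.Agent.Hens

set_option backward.isDefEq.respectTransparency.types false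

namespace Groth.Agent.GeomConn24

/-- Flatness is detected on subrings containing finitely many elements up to a unit. -/
theorem flat_of_factor {C M : Type u} [CommRing C] [CommRing M] (φ : C →+* M)
    (h : ∀ s : Finset C, ∃ (D : Type u) (_ : CommRing D) (π : D →+* C) (t : C),
      IsUnit t ∧ (∀ c ∈ s, t * c ∈ π.range) ∧ (φ.comp π).Flat) : φ.Flat := by
  classical
  letI := φ.toAlgebra
  show Module.Flat C M
  refine Module.Flat.of_forall_isTrivialRelation fun {l} {a} {x} hax => ?_
  obtain ⟨D, _, π, t, ht, hs, hflat⟩ := h (Finset.univ.image a)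
  choose b hb using fun k => hs (a k) (Finset.mem_image_of_mem a (Finset.mem_univ k))
  letI : Algebra D M := (φ.comp π).toAlgebra
  haveI : Module.Flat D M := hflat
  have hsum : ∑ k, b k • x k = 0 := by
    have : t • (∑ k, a k • x k) = 0 := by rw [hax, smul_zero]
    rw [← this, Finset.smul_sum]
    refine Finset.sum_congr rfl fun k _ => ?_
    show φ (π (b k)) * x k = t • a k • x k
    rw [hb, smul_smul]
    rfl
  obtain ⟨k, c, y, hc, hy⟩ :=
    Module.Flat.isTrivialRelation_of_sum_smul_eq_zero (R := D) (M := M) (f := b) (x := x) hsum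
  refine ⟨k, fun p q => π (c p q), y, fun p => ?_, fun q => ?_⟩
  · rw [hc p]
    exact Finset.sum_congr rfl fun q _ => rfl
  · refine ht.mul_right_eq_zero.1 ?_
    have := congrArg π (hy q)
    rw [map_sum, map_zero] at this
    rw [Finset.mul_sum, ← this]
    refine Finset.sum_congr rfl fun p _ => ?_
    simp [hb, mul_assoc]

/-- Finitely many elements of a strict henselization have denominators in one neighbourhood. -/
theorem exists_stage_mul {R Ω : Type u} [CommRing R] [Field Ω] [Algebra R Ω] (s : Finset (Hs R Ω)) :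
    ∃ (i : Nbhd R Ω) (t : i.S), IsUnit (Hs.of i (algebraMap i.S i.G t)) ∧
      ∀ a ∈ s, ∃ y : i.S, Hs.of i (algebraMap i.S i.G t) * a = Hs.of i (algebraMap i.S i.G y) := by
  classical
  obtain ⟨i, hi⟩ := Hs.exists_of_finset (R := R) (K := Ω) s id
  choose y hy using hi
  obtain ⟨t, ht⟩ := IsLocalization.exist_integer_multiples i.q.primeCompl Finset.univ fun a : s => y a.1 a.2
  refine ⟨i, t, (IsLocalization.map_units i.G t).map _, fun a ha => ?_⟩
  obtain ⟨z, hz⟩ := ht ⟨a, ha⟩ (Finset.mem_univ _)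
  refine ⟨z, ?_⟩
  rw [hz, Algebra.smul_def, map_mul, hy a ha]
  rfl

/-- An element killed by a faithful flat extension at a prime is killed near the prime. -/
theorem exists_isUnit_smul_eq_zero {C B M : Type u} [CommRing C] [CommRing B] [IsLocalRing B] [Algebra C B]
    [Module.Flat C B] [AddCommGroup M] [Module C M] (z : M) (hz : (1 : B) ⊗ₜ[C] z = 0) :
    ∃ u : C, IsUnit (algebraMap C B u) ∧ u • z = 0 := by
  let g := LinearMap.toSpanSingleton C M z
  let f : (C ⧸ LinearMap.ker g) →ₗ[C] M := (LinearMap.ker g).liftQ g le_rfl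
  have hf : Function.Injective f := LinearMap.ker_eq_bot.1 (Submodule.ker_liftQ_eq_bot' _ _ rfl)
  have h0 : (1 : B) ⊗ₜ[C] (Submodule.Quotient.mk (1 : C) : C ⧸ LinearMap.ker g) = 0 :=
    Module.Flat.lTensor_preserves_injective_linearMap (M := B) f hf (by
      rw [map_zero, LinearMap.lTensor_tmul, show f (Submodule.Quotient.mk (1 : C)) = z from
        (Submodule.liftQ_apply _ _ _).trans (by simp [g])]
      exact hz)
  have h1 : (Submodule.Quotient.mk ((1 : C) • (1 : B)) : B ⧸ (LinearMap.ker g • ⊤ : Submodule C B)) = 0 := by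
    exact (TensorProduct.tensorQuotEquivQuotSMul_tmul_mk (LinearMap.ker g) (1 : B) (1 : C)).symm.trans
      ((congrArg (TensorProduct.tensorQuotEquivQuotSMul B (LinearMap.ker g)) h0).trans (map_zero _))
  by_contra hne
  push_neg at hne
  have hle : (LinearMap.ker g • ⊤ : Submodule C B) ≤ (maximalIdeal B).restrictScalars C := by
    refine Submodule.smul_le.2 fun u hu b _ => ?_
    rw [Submodule.restrictScalars_mem, Algebra.smul_def]
    exact Ideal.mul_mem_right _ _ fun hunit => hne u hunit hu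
  rw [Submodule.Quotient.mk_eq_zero, one_smul] at h1
  exact (mem_maximalIdeal _).1 (hle h1) isUnit_one

/-- An element of a base change killed by a flat local extension is killed near the prime. -/
theorem exists_isUnit_tmul_mul_eq_zero {A C B L : Type u} [CommRing A] [CommRing C] [CommRing B] [CommRing L]
    [IsLocalRing B] [Algebra A C] [Algebra A B] [Algebra A L] (φ : C →ₐ[A] B) (hφ : φ.toRingHom.Flat)
    (z : C ⊗[A] L) (hz : Algebra.TensorProduct.map φ (AlgHom.id A L) z = 0) :
    ∃ u : C, IsUnit (φ u) ∧ (u ⊗ₜ[A] (1 : L)) * z = 0 := by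
  letI : Algebra C B := φ.toRingHom.toAlgebra
  haveI : Module.Flat C B := hφ
  haveI : IsScalarTower A C B := .of_algebraMap_eq fun a => (φ.commutes a).symm
  let E := Algebra.TensorProduct.cancelBaseChange A C C B L
  have hE : ∀ w : C ⊗[A] L, E ((1 : B) ⊗ₜ[C] w) = Algebra.TensorProduct.map φ (AlgHom.id A L) w := by
    intro w
    induction w using TensorProduct.induction_on with
    | zero => rw [tmul_zero, map_zero, map_zero]
    | add v w hv hw => rw [tmul_add, map_add, map_add, hv, hw]
    | tmul c l =>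
      refine (Algebra.TensorProduct.cancelBaseChange_tmul (R := A) (S := C) (T := C) (A := B) (B := L) _ _ _).trans ?_
      rw [Algebra.smul_def, mul_one]
      rfl
  obtain ⟨u, hu, hu0⟩ := exists_isUnit_smul_eq_zero (B := B) z
    (E.injective ((hE z).trans (hz.trans (map_zero E).symm)))
  refine ⟨u, hu, ?_⟩
  rw [← hu0, Algebra.smul_def]
  rfl

/-- Reducedness over a field is inherited by etale algebras. -/
theorem isReduced_tensor_of_etale {R R₁ R₂ K : Type u} [CommRing R] [CommRing R₁] [CommRing R₂] [CommRing K]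
    [Algebra R R₁] [Algebra R₁ R₂] [Algebra R R₂] [IsScalarTower R R₁ R₂] [Algebra.Etale R₁ R₂] [Algebra R K]
    [_root_.IsReduced (R₁ ⊗[R] K)] : _root_.IsReduced (R₂ ⊗[R] K) := by
  haveI : _root_.IsReduced ((R₁ ⊗[R] K) ⊗[R₁] R₂) := Hens.isReduced_of_etale (R₁ ⊗[R] K) _
  let e : R₂ ⊗[R] K ≃+* (R₁ ⊗[R] K) ⊗[R₁] R₂ :=
    (Algebra.TensorProduct.cancelBaseChange R R₁ R₁ R₂ K).toRingEquiv.symm.trans
      (Algebra.TensorProduct.comm R₁ R₂ (R₁ ⊗[R] K)).toRingEquiv
  exact isReduced_of_injective e e.injective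

variable {R R' : Type u} [CommRing R] [CommRing R'] [Algebra R R'] [Algebra.FinitePresentation R R']
  [Module.Flat R R'] {Ω : Type u} [Field Ω] [Algebra R Ω] [Algebra R' Ω] [IsScalarTower R R' Ω]

set_option maxHeartbeats 1000000 in
/-- Only trivial idempotents in the strictly local geometric fibres. -/
theorem idempotent_trivial (hred : ∀ (K : Type u) [Field K] [Algebra R K], _root_.IsReduced (R' ⊗[R] K))
    [IsSepClosed (ResidueField (Hs R Ω))] [Algebra (Hs R Ω) (Hs R' Ω)]
    [Algebra R (Hs R' Ω)] [IsScalarTower R R' (Hs R' Ω)] [IsScalarTower R (Hs R Ω) (Hs R' Ω)]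
    [IsLocalHom (algebraMap (Hs R Ω) (Hs R' Ω))] [Module.Flat (Hs R Ω) (Hs R' Ω)]
    (L : Type u) [Field L] [Algebra (Hs R Ω) L] (e : Hs R' Ω ⊗[Hs R Ω] L) (he : IsIdempotentElem e) :
    e = 0 ∨ e = 1 := by
  classical
  let A := Hs R Ω
  let B := Hs R' Ω
  obtain ⟨Se, hSe⟩ := TensorProduct.exists_finset e
  obtain ⟨j, t, htu, hy⟩ := exists_stage_mul (Se.image Prod.fst)
  choose y hy using hy
  let S' := Localization.Away t
  haveI : Algebra.Etale j.S S' := Algebra.Etale.of_isLocalizationAway t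
  haveI : Algebra.Etale R' S' := Algebra.Etale.comp R' j.S S'
  let ρ : j.S →+* B := (Hs.of j).toRingHom.comp (algebraMap j.S j.G)
  let φ₀ : S' →+* B := IsLocalization.Away.lift t (g := ρ) htu
  let φ' : S' →ₐ[R'] B := { φ₀ with
    commutes' := fun r => by
      show φ₀ (algebraMap R' S' r) = _
      rw [IsScalarTower.algebraMap_apply R' j.S S', IsLocalization.Away.lift_eq]
      show Hs.of j (algebraMap j.S j.G (algebraMap R' j.S r)) = _
      rw [← IsScalarTower.algebraMap_apply, AlgHom.commutes] }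
  haveI : IsScalarTower R R' S' := inferInstance
  haveI : Algebra.FinitePresentation R S' := Algebra.FinitePresentation.trans R R' S'
  haveI : Module.Flat R S' := Module.Flat.trans R R' S'
  -- the stage
  let C := A ⊗[R] S'
  let φ : C →ₐ[A] B := Algebra.TensorProduct.lift (Algebra.ofId A B) (φ'.restrictScalars R) fun _ _ => .all _ _
  have hB : RingHom.Flat (algebraMap R' B) := RingHom.flat_algebraMap_iff.2 inferInstance
  have hφ' : φ'.toRingHom.Flat := ShFlat24.flat_of_etale (R := R') φ'.toRingHom (by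
    rw [show φ'.toRingHom.comp (algebraMap R' S') = algebraMap R' B from φ'.comp_algebraMap]
    exact hB)
  have hφ : φ.toRingHom.Flat := flat_of_factor φ.toRingHom fun s => by
    choose sA hsA using fun c : C => NormalBC6.exists_finset_tensor (A := R) (C := A) (A' := S') c
    obtain ⟨i, t₀, ht₀, hy₀⟩ := exists_stage_mul (s.biUnion sA)
    let oi : i.S →ₐ[R] A := (Hs.of i).comp (IsScalarTower.toAlgHom R i.S i.G)
    let π : S' ⊗[R] i.S →ₐ[R] C := Algebra.TensorProduct.lift Algebra.TensorProduct.includeRight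
      (Algebra.TensorProduct.includeLeft.comp oi) fun _ _ => .all _ _
    refine ⟨S' ⊗[R] i.S, inferInstance, π.toRingHom, oi t₀ ⊗ₜ[R] 1,
      ht₀.map (Algebra.TensorProduct.includeLeftRingHom : A →+* C), fun c hc => ?_,
      ShFlat24.flat_of_etale (R := S') _ ?_⟩
    · let M₀ : Submodule R A := (LinearMap.range oi.toLinearMap).comap (LinearMap.mulLeft R (oi t₀))
      obtain ⟨w, hw⟩ := hsA c M₀ fun a ha => by
        obtain ⟨z, hz⟩ := hy₀ a (Finset.mem_biUnion.2 ⟨c, hc, ha⟩)
        exact ⟨z, hz.symm⟩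
      subst hw
      clear hc
      induction w using TensorProduct.induction_on with
      | zero => rw [map_zero, mul_zero]; exact zero_mem _
      | add v w hv hw => rw [map_add, mul_add]; exact add_mem hv hw
      | tmul a s =>
        obtain ⟨z, hz⟩ := a.2
        refine ⟨s ⊗ₜ[R] z, ?_⟩
        show π (s ⊗ₜ[R] z) = (oi t₀ ⊗ₜ[R] 1) * ((a : A) ⊗ₜ[R] s)
        rw [show π (s ⊗ₜ[R] z) = ((1 : A) ⊗ₜ[R] s) * (oi z ⊗ₜ[R] (1 : S')) from Algebra.TensorProduct.lift_tmul _ _ _ s z,
          Algebra.TensorProduct.tmul_mul_tmul, Algebra.TensorProduct.tmul_mul_tmul, one_mul, mul_one, one_mul]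
        exact congrArg (· ⊗ₜ[R] s) hz
    · have e1 : (φ.toRingHom.comp π.toRingHom).comp (algebraMap S' (S' ⊗[R] i.S)) = φ'.toRingHom :=
        RingHom.ext fun s => by
          show φ (π (s ⊗ₜ[R] 1)) = φ' s
          rw [show π (s ⊗ₜ[R] 1) = ((1 : A) ⊗ₜ[R] s) * (oi 1 ⊗ₜ[R] (1 : S')) from Algebra.TensorProduct.lift_tmul _ _ _ s 1,
            map_one, ← Algebra.TensorProduct.one_def, mul_one]
          exact (Algebra.TensorProduct.lift_tmul _ _ _ _ _).trans (by rw [map_one, one_mul]; rfl)
      rw [e1]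
      exact hφ'
  let e'' : C ⊗[A] L :=
    ∑ p ∈ Se.attach, ((1 : A) ⊗ₜ[R] IsLocalization.mk' S' (y p.1.1 (Finset.mem_image_of_mem Prod.fst p.2))
      (⟨t, Submonoid.mem_powers t⟩ : Submonoid.powers t)) ⊗ₜ[A] p.1.2
  let Φ : C ⊗[A] L →ₐ[A] B ⊗[A] L := Algebra.TensorProduct.map φ (AlgHom.id A L)
  have he'' : Φ e'' = e := by
    rw [hSe, map_sum, ← Finset.sum_attach (s := Se) (f := fun i => i.1 ⊗ₜ[A] i.2)]
    refine Finset.sum_congr rfl fun p _ => ?_
    show φ ((1 : A) ⊗ₜ[R] IsLocalization.mk' S' _ _) ⊗ₜ[A] p.1.2 = _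
    refine congrArg (· ⊗ₜ[A] p.1.2) (htu.mul_left_cancel ?_)
    refine Eq.trans ?_ (hy _ (Finset.mem_image_of_mem Prod.fst p.2)).symm
    show ρ t * φ ((1 : A) ⊗ₜ[R] _) = ρ _
    rw [show φ ((1 : A) ⊗ₜ[R] IsLocalization.mk' S' (y p.1.1 _) (⟨t, Submonoid.mem_powers t⟩ : Submonoid.powers t)) =
      φ₀ _ from (Algebra.TensorProduct.lift_tmul _ _ _ _ _).trans (by rw [map_one, one_mul]; rfl),
      ← IsLocalization.Away.lift_eq (S := S') t htu t, ← map_mul, mul_comm, IsLocalization.mk'_spec,
      IsLocalization.Away.lift_eq]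
  -- make the lift idempotent
  let z := e'' * e'' - e''
  have hz : Φ z = 0 := by rw [map_sub, map_mul, he'', he.eq, sub_self]
  obtain ⟨u, hu, hu0⟩ := exists_isUnit_tmul_mul_eq_zero φ hφ z hz
  let C' := Localization.Away u
  haveI : Algebra.Etale C C' := Algebra.Etale.of_isLocalizationAway u
  haveI : Algebra.FinitePresentation A C := inferInstance
  haveI : Algebra.FinitePresentation A C' := Algebra.FinitePresentation.trans A C C'
  haveI : Module.Flat A C' := Module.Flat.trans A C C'
  let φ₁ : C' →+* B := IsLocalization.Away.lift u (g := φ.toRingHom) hu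
  let φ'' : C' →ₐ[A] B := { φ₁ with
    commutes' := fun a => by
      show φ₁ (algebraMap A C' a) = _
      rw [IsScalarTower.algebraMap_apply A C C', IsLocalization.Away.lift_eq]
      exact φ.commutes a }
  let ι : C →ₐ[A] C' := IsScalarTower.toAlgHom A C C'
  let Ψ : C ⊗[A] L →ₐ[A] C' ⊗[A] L := Algebra.TensorProduct.map ι (AlgHom.id A L)
  have hΨ : IsIdempotentElem (Ψ e'') := by
    have h1 : Ψ ((u ⊗ₜ[A] (1 : L)) * z) = (algebraMap C C' u ⊗ₜ[A] (1 : L)) * Ψ z := map_mul Ψ _ _
    rw [hu0, map_zero] at h1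
    have hunit : IsUnit (algebraMap C C' u ⊗ₜ[A] (1 : L)) :=
      (IsLocalization.Away.algebraMap_isUnit u).map (Algebra.TensorProduct.includeLeftRingHom : C' →+* C' ⊗[A] L)
    have h2 : Ψ z = 0 := hunit.mul_left_cancel (h1.symm.trans (mul_zero _).symm)
    rw [map_sub, map_mul, sub_eq_zero] at h2
    exact h2
  have hred' : ∀ (K : Type u) [Field K] [Algebra A K], _root_.IsReduced (C' ⊗[A] K) := by
    intro K _ _
    letI : Algebra R K := ((algebraMap A K).comp (algebraMap R A)).toAlgebra
    haveI : IsScalarTower R A K := .of_algebraMap_eq fun _ => rfl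
    haveI := hred K
    haveI : _root_.IsReduced (S' ⊗[R] K) := isReduced_tensor_of_etale (R₁ := R')
    haveI : _root_.IsReduced (C ⊗[A] K) := by
      let eK : C ⊗[A] K ≃+* S' ⊗[R] K :=
        (Algebra.TensorProduct.comm A C K).toRingEquiv.trans
          ((Algebra.TensorProduct.cancelBaseChange R A K K S').toRingEquiv.trans
            (Algebra.TensorProduct.comm R K S').toRingEquiv)
      exact isReduced_of_injective eK eK.injective
    exact isReduced_tensor_of_etale (R₁ := C)
  obtain ⟨w, hw, hwe⟩ := exists_idempotent_lift hred' (Ψ e'') hΨ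
  -- the local ring of the integral closure
  let N := integralClosure A L
  haveI : IsLocalRing N := HensH7.isLocalRing_of_integral_domain A
  haveI : Module.FaithfullyFlat A B := Module.FaithfullyFlat.of_flat_of_isLocalHom
  haveI : Nontrivial (B ⊗[A] N) := Module.FaithfullyFlat.lTensor_nontrivial A B N
  obtain ⟨hN, hlocN, hins⟩ := HensH7.henselian_of_integral_domain (B := N) (A := A)
  haveI := hlocN
  letI := (ResidueField.map (algebraMap A N)).toAlgebra
  haveI : IsPurelyInseparable (ResidueField A) (ResidueField N) := (hins inferInstance).2 hlocN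
  let p := ringExpChar (ResidueField A)
  haveI : ExpChar (ResidueField A) p := ringExpChar.expChar _
  haveI : ExpChar (ResidueField N) p :=
    expChar_of_injective_algebraMap (algebraMap (ResidueField A) (ResidueField N)).injective p
  haveI : ExpChar (N ⧸ maximalIdeal N) p := ‹ExpChar (ResidueField N) p›
  haveI : IsLocalRing (B ⊗[A] N) := by
    refine S2785.isLocalRing_tensor p fun x => ?_
    obtain ⟨n, a, ha⟩ := IsPurelyInseparable.pow_mem (ResidueField A) p (residue N x)
    obtain ⟨a, rfl⟩ := residue_surjective a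
    refine ⟨n, a, Ideal.Quotient.eq_zero_iff_mem.1 ?_⟩
    show residue N (x ^ p ^ n - algebraMap A N a) = 0
    rw [map_sub, map_pow, ← ha, sub_eq_zero]
    rfl
  let θ : C' ⊗[A] N →ₐ[A] B ⊗[A] N := Algebra.TensorProduct.map φ'' (AlgHom.id A N)
  let υ : B ⊗[A] N →ₐ[A] B ⊗[A] L := Algebra.TensorProduct.map (AlgHom.id A B) N.val
  have hυ : υ (θ w) = e := by
    have h1 : υ.comp θ = (Algebra.TensorProduct.map φ'' (AlgHom.id A L)).comp
        (Algebra.TensorProduct.map (AlgHom.id A C') N.val) := Algebra.TensorProduct.ext' fun _ _ => rfl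
    have h2 : (Algebra.TensorProduct.map φ'' (AlgHom.id A L)).comp Ψ = Φ := Algebra.TensorProduct.ext' fun c l => by
      show φ₁ (algebraMap C C' c) ⊗ₜ[A] l = φ c ⊗ₜ[A] l
      rw [IsLocalization.Away.lift_eq]
      rfl
    refine (congrArg (fun F => F w) h1).trans ?_
    refine (congrArg (Algebra.TensorProduct.map φ'' (AlgHom.id A L)) hwe).trans ?_
    exact (congrArg (fun F : C ⊗[A] L →ₐ[A] B ⊗[A] L => F e'') h2).trans he''
  rw [← hυ]
  rcases IsLocalRing.isUnit_or_isUnit_one_sub_self (θ w) with hu' | hu'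
  · right
    rw [show θ w = 1 from hu'.mul_left_cancel (by rw [(hw.map θ).eq, mul_one]), map_one]
  · left
    have h0 : (1 - θ w) * θ w = 0 := by rw [sub_mul, one_mul, (hw.map θ).eq, sub_self]
    rw [hu'.mul_right_eq_zero.1 h0, map_zero]

/-- The strictly local geometric fibres are connected. -/
theorem connectedSpace_fibre (hred : ∀ (K : Type u) [Field K] [Algebra R K], _root_.IsReduced (R' ⊗[R] K))
    [IsSepClosed (ResidueField (Hs R Ω))] (ψ : Hs R Ω →+* Hs R' Ω) [IsLocalHom ψ] (hflat : ψ.Flat)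
    (hψR : ∀ r, ψ (algebraMap R _ r) = algebraMap R' _ (algebraMap R R' r))
    (L : Type u) [Field L] (η : Spec (CommRingCat.of L) ⟶ Spec (CommRingCat.of (Hs R Ω))) :
    ConnectedSpace ↥(pullback (Spec.map (CommRingCat.ofHom ψ)) η) := by
  obtain ⟨φ, rfl⟩ := Spec.map_surjective η
  letI : Algebra (Hs R Ω) L := φ.hom.toAlgebra
  letI := ψ.toAlgebra
  letI : Algebra R (Hs R' Ω) := ((algebraMap R' (Hs R' Ω)).comp (algebraMap R R')).toAlgebra
  haveI : IsScalarTower R R' (Hs R' Ω) := .of_algebraMap_eq fun _ => rfl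
  haveI : IsScalarTower R (Hs R Ω) (Hs R' Ω) := .of_algebraMap_eq fun r => (hψR r).symm
  haveI : IsLocalHom (algebraMap (Hs R Ω) (Hs R' Ω)) := ‹IsLocalHom ψ›
  haveI : Module.Flat (Hs R Ω) (Hs R' Ω) := hflat
  haveI : Module.FaithfullyFlat (Hs R Ω) (Hs R' Ω) := Module.FaithfullyFlat.of_flat_of_isLocalHom
  haveI : Nontrivial (Hs R' Ω ⊗[Hs R Ω] L) := Module.FaithfullyFlat.lTensor_nontrivial _ (Hs R' Ω) L
  haveI : ConnectedSpace ↥(Spec (CommRingCat.of (Hs R' Ω ⊗[Hs R Ω] L))) :=
    { toPreconnectedSpace := S2785.preconnected_spec _ fun e he => idempotent_trivial hred L e he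
      toNonempty := inferInstanceAs (Nonempty (PrimeSpectrum (Hs R' Ω ⊗[Hs R Ω] L))) }
  exact Function.Surjective.connectedSpace (f := (pullbackSpecIso (Hs R Ω) (Hs R' Ω) L).inv)
    (pullbackSpecIso (Hs R Ω) (Hs R' Ω) L).inv.surjective (pullbackSpecIso (Hs R Ω) (Hs R' Ω) L).inv.continuous

end Groth.Agent.GeomConn24
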