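import Groth.Agent.Lib.GeomConn24.Connected

/-!
# Connectedness of geometric fibres of maps of staged henselian local rings

An algebra is staged over `R` when finitely many of its elements come, up to a unit, from one etale
`R`-algebra: the case of strict henselizations and of their quotients.
-/

universe u

open CategoryTheory CategoryTheory.Limits AlgebraicGeometry IsLocalRing TensorProduct Groth.Agent.Hens

set_option backward.isDefEq.respectTransparency.types false

namespace Groth.Agent.GeomConn24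

/-- Finitely many elements come, up to a unit, from one etale algebra. -/
def Staged (R A : Type u) [CommRing R] [CommRing A] [Algebra R A] : Prop :=
  ∀ s : Finset A, ∃ (S : Type u) (_ : CommRing S) (_ : Algebra R S) (_ : Algebra.Etale R S) (π : S →ₐ[R] A) (t : A),
    IsUnit t ∧ ∀ a ∈ s, t * a ∈ π.range

theorem staged_hs {R Ω : Type u} [CommRing R] [Field Ω] [Algebra R Ω] : Staged R (Hs R Ω) := by
  intro s
  obtain ⟨i, t, ht, hy⟩ := exists_stage_mul s
  refine ⟨i.S, inferInstance, inferInstance, inferInstance,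
    (Hs.of i).comp (IsScalarTower.toAlgHom R i.S i.G), _, ht, fun a ha => ?_⟩
  obtain ⟨y, hy⟩ := hy a ha
  exact ⟨y, hy.symm⟩

/-- Staged algebras have staged quotients. -/
theorem Staged.map {R A R₂ A₂ : Type u} [CommRing R] [CommRing A] [Algebra R A] [CommRing R₂] [CommRing A₂]
    [Algebra R R₂] [Algebra R₂ A₂] [Algebra R A₂] [IsScalarTower R R₂ A₂] (h : Staged R A) (q : A →ₐ[R] A₂)
    (hq : Function.Surjective q) : Staged R₂ A₂ := by
  classical
  intro s
  choose l hl using hq
  obtain ⟨S, _, _, _, π, t, ht, hs⟩ := h (s.image l)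
  let π₂ : R₂ ⊗[R] S →ₐ[R₂] A₂ :=
    Algebra.TensorProduct.lift (Algebra.ofId R₂ A₂) (q.comp π) fun _ _ => .all _ _
  refine ⟨R₂ ⊗[R] S, inferInstance, inferInstance, inferInstance, π₂, q t, ht.map q, fun a ha => ?_⟩
  obtain ⟨y, hy⟩ := hs (l a) (Finset.mem_image_of_mem l ha)
  refine ⟨1 ⊗ₜ y, ?_⟩
  have e : π₂ (1 ⊗ₜ y) = q (π y) := by simp [π₂]
  rw [← hl a, ← map_mul]
  exact e.trans (congrArg q hy)

variable {R R' A B : Type u} [CommRing R] [CommRing R'] [Algebra R R'] [CommRing A] [Algebra R A] [CommRing B]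
  [Algebra R' B] [Algebra R B] [IsScalarTower R R' B] [Algebra A B] [IsScalarTower R A B]
  [Module.Flat R' B]

/-- Flatness between staged algebras. -/
theorem flat_of_staged [Module.Flat R R'] (hA : Staged R A) : Module.Flat A B := by
  classical
  refine flat_of_factor (algebraMap A B) (fun s => ?_) |> RingHom.flat_algebraMap_iff.1
  obtain ⟨S, _, _, _, π, t, ht, hs⟩ := hA s
  refine ⟨S, inferInstance, π.toRingHom, t, ht, fun a ha => hs a ha, ShFlat24.flat_of_etale (R := R) _ ?_⟩
  have e : ((algebraMap A B).comp π.toRingHom).comp (algebraMap R S) = algebraMap R B :=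
    RingHom.ext fun r => by
      show algebraMap A B (π (algebraMap R S r)) = _
      rw [AlgHom.commutes, ← IsScalarTower.algebraMap_apply]
  rw [e]
  haveI : Module.Flat R B := Module.Flat.trans R R' B
  exact RingHom.flat_algebraMap_iff.2 inferInstance

/-- The map of a stage upstairs, extended to the henselian base, is flat. -/
theorem flat_stageMap (hA : Staged R A) {S' : Type u} [CommRing S'] [Algebra R S'] [Algebra R' S']
    [IsScalarTower R R' S'] [Algebra.Etale R' S'] (π' : S' →ₐ[R'] B) :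
    (Algebra.TensorProduct.lift (Algebra.ofId A B) (π'.restrictScalars R) fun _ _ => .all _ _ :
      A ⊗[R] S' →ₐ[A] B).toRingHom.Flat := by
  classical
  let C := A ⊗[R] S'
  let φ : C →ₐ[A] B := Algebra.TensorProduct.lift (Algebra.ofId A B) (π'.restrictScalars R) fun _ _ => .all _ _
  have hπ' : π'.toRingHom.Flat := ShFlat24.flat_of_etale (R := R') π'.toRingHom (by
    rw [show π'.toRingHom.comp (algebraMap R' S') = algebraMap R' B from π'.comp_algebraMap]
    exact RingHom.flat_algebraMap_iff.2 inferInstance)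
  refine flat_of_factor φ.toRingHom fun s => ?_
  choose sA hsA using fun c : C => NormalBC6.exists_finset_tensor (A := R) (C := A) (A' := S') c
  obtain ⟨S, _, _, _, π, t, ht, hs⟩ := hA (s.biUnion sA)
  let π₂ : S' ⊗[R] S →ₐ[R] C := Algebra.TensorProduct.lift Algebra.TensorProduct.includeRight
    (Algebra.TensorProduct.includeLeft.comp π) fun _ _ => .all _ _
  refine ⟨S' ⊗[R] S, inferInstance, π₂.toRingHom, t ⊗ₜ[R] 1,
    ht.map (Algebra.TensorProduct.includeLeftRingHom : A →+* C), fun c hc => ?_,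
    ShFlat24.flat_of_etale (R := S') _ ?_⟩
  · let M₀ : Submodule R A := (LinearMap.range π.toLinearMap).comap (LinearMap.mulLeft R t)
    obtain ⟨w, hw⟩ := hsA c M₀ fun a ha => hs a (Finset.mem_biUnion.2 ⟨c, hc, ha⟩)
    subst hw
    clear hc
    induction w using TensorProduct.induction_on with
    | zero => rw [map_zero, mul_zero]; exact zero_mem _
    | add v w hv hw => rw [map_add, mul_add]; exact add_mem hv hw
    | tmul a s =>
      obtain ⟨z, hz⟩ := a.2
      refine ⟨s ⊗ₜ[R] z, ?_⟩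
      show π₂ (s ⊗ₜ[R] z) = (t ⊗ₜ[R] 1) * ((a : A) ⊗ₜ[R] s)
      rw [show π₂ (s ⊗ₜ[R] z) = ((1 : A) ⊗ₜ[R] s) * (π z ⊗ₜ[R] (1 : S')) from Algebra.TensorProduct.lift_tmul _ _ _ s z,
        Algebra.TensorProduct.tmul_mul_tmul, Algebra.TensorProduct.tmul_mul_tmul, one_mul, mul_one, one_mul]
      exact congrArg (· ⊗ₜ[R] s) hz
  · have e1 : (φ.toRingHom.comp π₂.toRingHom).comp (algebraMap S' (S' ⊗[R] S)) = π'.toRingHom :=
      RingHom.ext fun s => by
        show φ (π₂ (s ⊗ₜ[R] 1)) = π' s
        rw [show π₂ (s ⊗ₜ[R] 1) = ((1 : A) ⊗ₜ[R] s) * (π 1 ⊗ₜ[R] (1 : S')) from Algebra.TensorProduct.lift_tmul _ _ _ s 1,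
          map_one, ← Algebra.TensorProduct.one_def, mul_one]
        exact (Algebra.TensorProduct.lift_tmul _ _ _ _ _).trans (by rw [map_one, one_mul]; rfl)
    rw [e1]
    exact hπ'

/-- Solutions of `x² = c x` are, up to nilpotents, integral. -/
def Lifts (R A L S' : Type u) [CommRing R] [CommRing A] [Algebra R A] [Field L] [Algebra A L] [Algebra R L]
    [IsScalarTower R A L] [CommRing S'] [Algebra R S'] : Prop :=
  ∀ (c : S' ⊗[R] A) (x : S' ⊗[R] L),
    x * x = Algebra.TensorProduct.map (AlgHom.id R S') (IsScalarTower.toAlgHom R A L) c * x →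
    ∃ w : S' ⊗[R] (integralClosure A L),
      IsNilpotent (Algebra.TensorProduct.map (AlgHom.id R S') ((integralClosure A L).val.restrictScalars R) w - x)

set_option maxHeartbeats 1000000 in
/-- Only trivial idempotents in the geometric fibres of staged henselian algebras. -/
theorem idempotent_trivial_of_staged [HenselianLocalRing A] [IsSepClosed (ResidueField A)] [IsLocalRing B]
    [IsLocalHom (algebraMap A B)] [Module.Flat A B] (hA : Staged R A) (hB : Staged R' B)
    (L : Type u) [Field L] [Algebra A L] [Algebra R L] [IsScalarTower R A L]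
    (hlift : ∀ (S' : Type u) [CommRing S'] [Algebra R S'] [Algebra R' S'] [IsScalarTower R R' S']
      [Algebra.Etale R' S'], Lifts R A L S')
    (e : B ⊗[A] L) (he : IsIdempotentElem e) : e = 0 ∨ e = 1 := by
  classical
  obtain ⟨Se, hSe⟩ := TensorProduct.exists_finset e
  obtain ⟨S', _, _, _, π', t, ht, hy⟩ := hB (insert (1 : B) (Se.image Prod.fst))
  letI : Algebra R S' := ((algebraMap R' S').comp (algebraMap R R')).toAlgebra
  haveI : IsScalarTower R R' S' := .of_algebraMap_eq fun _ => rfl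
  choose y hy using hy
  let C := A ⊗[R] S'
  let φ : C →ₐ[A] B := Algebra.TensorProduct.lift (Algebra.ofId A B) (π'.restrictScalars R) fun _ _ => .all _ _
  have hφ : φ.toRingHom.Flat := flat_stageMap hA π'
  have hφy : ∀ s : S', φ (1 ⊗ₜ[R] s) = π' s := fun s =>
    (Algebra.TensorProduct.lift_tmul _ _ _ _ _).trans (by rw [map_one, one_mul]; rfl)
  let t' : C := 1 ⊗ₜ[R] y 1 (Finset.mem_insert_self _ _)
  have ht' : φ t' = t := (hφy _).trans ((hy 1 (Finset.mem_insert_self _ _)).trans (mul_one t))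
  let Φ : C ⊗[A] L →ₐ[A] B ⊗[A] L := Algebra.TensorProduct.map φ (AlgHom.id A L)
  let e'' : C ⊗[A] L := ∑ p ∈ Se.attach,
    ((1 : A) ⊗ₜ[R] y p.1.1 (Finset.mem_insert_of_mem (Finset.mem_image_of_mem Prod.fst p.2))) ⊗ₜ[A] p.1.2
  have he'' : Φ e'' = (t ⊗ₜ[A] (1 : L)) * e := by
    rw [hSe, map_sum, Finset.mul_sum, ← Finset.sum_attach (s := Se) (f := fun i => (t ⊗ₜ[A] (1 : L)) * i.1 ⊗ₜ[A] i.2)]
    refine Finset.sum_congr rfl fun p _ => ?_
    refine (Algebra.TensorProduct.map_tmul φ (AlgHom.id A L) _ _).trans ?_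
    rw [hφy, Algebra.TensorProduct.tmul_mul_tmul, one_mul, AlgHom.id_apply]
    exact congrArg (· ⊗ₜ[A] p.1.2) (hy _ _)
  let z := e'' * e'' - (t' ⊗ₜ[A] (1 : L)) * e''
  have hz : Φ z = 0 := by
    have h1 : Φ (t' ⊗ₜ[A] (1 : L)) = t ⊗ₜ[A] (1 : L) :=
      (Algebra.TensorProduct.map_tmul _ _ _ _).trans (congrArg (· ⊗ₜ[A] (1 : L)) ht')
    rw [map_sub, map_mul, map_mul, he'', h1]
    rw [show (t ⊗ₜ[A] (1 : L)) * e * ((t ⊗ₜ[A] (1 : L)) * e) = (t ⊗ₜ[A] (1 : L)) * ((t ⊗ₜ[A] (1 : L)) * (e * e)) by ring,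
      he.eq, sub_self]
  obtain ⟨u, hu, hu0⟩ := exists_isUnit_tmul_mul_eq_zero φ hφ z hz
  let U : C ⊗[A] L := u ⊗ₜ[A] 1
  let x₀ := U * e''
  have hx₀ : x₀ * x₀ = ((u * t') ⊗ₜ[A] (1 : L)) * x₀ := by
    have : U * z = 0 := hu0
    rw [mul_sub, sub_eq_zero] at this
    rw [show ((u * t') ⊗ₜ[A] (1 : L)) = U * (t' ⊗ₜ[A] (1 : L)) by
      rw [Algebra.TensorProduct.tmul_mul_tmul, one_mul]]
    calc x₀ * x₀ = U * (U * (e'' * e'')) := by ring
      _ = U * (U * ((t' ⊗ₜ[A] (1 : L)) * e'')) := by rw [this]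
      _ = U * (t' ⊗ₜ[A] (1 : L)) * x₀ := by ring
  -- transport to `S' ⊗[R] L`
  let ιA : A →ₐ[R] L := IsScalarTower.toAlgHom R A L
  letI : Algebra A (S' ⊗[R] L) :=
    ((Algebra.TensorProduct.includeRight : L →ₐ[R] S' ⊗[R] L).toRingHom.comp (algebraMap A L)).toAlgebra
  let ρC : C →ₐ[A] S' ⊗[R] L :=
    { ((Algebra.TensorProduct.map (AlgHom.id R S') ιA).comp
        (Algebra.TensorProduct.comm R A S').toAlgHom).toRingHom with
      commutes' := fun a => rfl }
  let ρL : L →ₐ[A] S' ⊗[R] L :=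
    { (Algebra.TensorProduct.includeRight : L →ₐ[R] S' ⊗[R] L).toRingHom with commutes' := fun a => rfl }
  let κ : C ⊗[A] L →ₐ[A] S' ⊗[R] L := Algebra.TensorProduct.lift ρC ρL fun _ _ => .all _ _
  let Φ' : S' ⊗[R] L →ₐ[R] B ⊗[A] L :=
    Algebra.TensorProduct.lift
      (((Algebra.TensorProduct.includeLeft : B →ₐ[A] B ⊗[A] L).restrictScalars R).comp (π'.restrictScalars R))
      ((Algebra.TensorProduct.includeRight : L →ₐ[A] B ⊗[A] L).restrictScalars R) fun _ _ => .all _ _
  have hκ : ∀ w, Φ' (κ w) = Φ w := by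
    intro w
    induction w using TensorProduct.induction_on with
    | zero => rw [map_zero, map_zero, map_zero]
    | add v w hv hw => rw [map_add, map_add, map_add, hv, hw]
    | tmul c l =>
      rw [show κ (c ⊗ₜ[A] l) = ρC c * ρL l from Algebra.TensorProduct.lift_tmul _ _ _ _ _, map_mul,
        show Φ (c ⊗ₜ[A] l) = φ c ⊗ₜ[A] l from rfl,
        show Φ' (ρL l) = (1 : B) ⊗ₜ[A] l by
          show Φ' ((1 : S') ⊗ₜ[R] l) = _
          simp [Φ']]
      suffices Φ' (ρC c) = φ c ⊗ₜ[A] (1 : L) by rw [this, Algebra.TensorProduct.tmul_mul_tmul, mul_one, one_mul]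
      induction c using TensorProduct.induction_on with
      | zero => rw [map_zero, map_zero, map_zero, TensorProduct.zero_tmul]
      | add v w hv hw => rw [map_add, map_add, map_add, hv, hw, TensorProduct.add_tmul]
      | tmul a s =>
        show Φ' (s ⊗ₜ[R] algebraMap A L a) = _
        rw [show φ (a ⊗ₜ[R] s) = algebraMap A B a * π' s from Algebra.TensorProduct.lift_tmul _ _ _ _ _,
          show Φ' (s ⊗ₜ[R] algebraMap A L a) = (π' s ⊗ₜ[A] (1 : L)) * ((1 : B) ⊗ₜ[A] algebraMap A L a) from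
            Algebra.TensorProduct.lift_tmul _ _ _ _ _,
          Algebra.TensorProduct.tmul_mul_tmul, mul_one, one_mul, Algebra.algebraMap_eq_smul_one a (A := L),
          TensorProduct.tmul_smul, TensorProduct.smul_tmul', Algebra.smul_def]
  obtain ⟨w, hw⟩ := hlift S' (Algebra.TensorProduct.comm R A S' (u * t')) (κ x₀) (by
    have h1 := congrArg κ hx₀
    rw [map_mul κ x₀ x₀, map_mul κ _ x₀] at h1
    rw [h1]
    refine congrArg (· * κ x₀) ?_
    rw [show κ ((u * t') ⊗ₜ[A] (1 : L)) = ρC (u * t') * ρL 1 from Algebra.TensorProduct.lift_tmul _ _ _ _ _,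
      map_one, mul_one]
    rfl)
  -- the local ring of the integral closure
  let N := integralClosure A L
  haveI : IsLocalRing N := HensH7.isLocalRing_of_integral_domain A
  haveI : Module.FaithfullyFlat A B := Module.FaithfullyFlat.of_flat_of_isLocalHom
  haveI : Nontrivial (B ⊗[A] N) := Module.FaithfullyFlat.lTensor_nontrivial A B N
  obtain ⟨hN, hlocN, hins⟩ := HensH7.henselian_of_integral_domain (B := N) (A := A)
  haveI := hlocN
  letI := (ResidueField.map (algebraMap A N)).toAlgebra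
  haveI : IsPurelyInseparable (ResidueField A) (ResidueField N) := (hins inferInstance).2 hlocN
  let p := ringExpChar (ResidueField A)
  haveI : ExpChar (ResidueField A) p := ringExpChar.expChar _
  haveI : ExpChar (ResidueField N) p :=
    expChar_of_injective_algebraMap (algebraMap (ResidueField A) (ResidueField N)).injective p
  haveI : ExpChar (N ⧸ maximalIdeal N) p := ‹ExpChar (ResidueField N) p›
  haveI : IsLocalRing (B ⊗[A] N) := by
    refine S2785.isLocalRing_tensor p fun x => ?_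
    obtain ⟨n, a, ha⟩ := IsPurelyInseparable.pow_mem (ResidueField A) p (residue N x)
    obtain ⟨a, rfl⟩ := residue_surjective a
    refine ⟨n, a, Ideal.Quotient.eq_zero_iff_mem.1 ?_⟩
    show residue N (x ^ p ^ n - algebraMap A N a) = 0
    rw [map_sub, map_pow, ← ha, sub_eq_zero]
    rfl
  let θ : S' ⊗[R] N →ₐ[R] B ⊗[A] N :=
    Algebra.TensorProduct.lift
      (((Algebra.TensorProduct.includeLeft : B →ₐ[A] B ⊗[A] N).restrictScalars R).comp (π'.restrictScalars R))
      ((Algebra.TensorProduct.includeRight : N →ₐ[A] B ⊗[A] N).restrictScalars R) fun _ _ => .all _ _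
  let υ : B ⊗[A] N →ₐ[A] B ⊗[A] L := Algebra.TensorProduct.map (AlgHom.id A B) N.val
  have hυ : Function.Injective υ :=
    Module.Flat.lTensor_preserves_injective_linearMap (M := B) N.val.toLinearMap Subtype.val_injective
  have hcomm : ∀ v, υ (θ v) = Φ' (Algebra.TensorProduct.map (AlgHom.id R S') (N.val.restrictScalars R) v) := by
    intro v
    induction v using TensorProduct.induction_on with
    | zero => rw [map_zero, map_zero, map_zero, map_zero]
    | add v w hv hw => rw [map_add, map_add, map_add, map_add, hv, hw]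
    | tmul s n => simp [θ, υ, Φ']
  obtain ⟨d, hd⟩ := hu.mul ht
  let q : B ⊗[A] N := ((↑d⁻¹ : B) ⊗ₜ[A] (1 : N)) * θ w
  have hx₀' : Φ' (κ x₀) = ((φ u * t) ⊗ₜ[A] (1 : L)) * e := by
    rw [hκ, map_mul, he'', show Φ U = φ u ⊗ₜ[A] (1 : L) from rfl, ← mul_assoc,
      Algebra.TensorProduct.tmul_mul_tmul, mul_one]
  have hq : IsNilpotent (υ q - e) := by
    have h1 := hw.map Φ'
    rw [map_sub, ← hcomm, hx₀'] at h1
    have h2 := Commute.isNilpotent_mul_left (x := υ ((↑d⁻¹ : B) ⊗ₜ[A] (1 : N))) (Commute.all _ _) h1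
    rw [mul_sub, ← map_mul, ← mul_assoc] at h2
    rwa [show υ ((↑d⁻¹ : B) ⊗ₜ[A] (1 : N)) * ((φ u * t) ⊗ₜ[A] (1 : L)) = 1 by
      show ((↑d⁻¹ : B) ⊗ₜ[A] (1 : L)) * ((φ u * t) ⊗ₜ[A] (1 : L)) = 1
      rw [Algebra.TensorProduct.tmul_mul_tmul, ← hd, Units.inv_mul, mul_one, ← Algebra.TensorProduct.one_def],
      one_mul] at h2
  have hqq : IsNilpotent (q * (q - 1)) := by
    refine (IsNilpotent.map_iff hυ).1 ?_
    have : υ (q * (q - 1)) = (υ q - e) * (υ q + e - 1) := by
      rw [map_mul, map_sub, map_one]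
      linear_combination he.eq
    rw [this]
    exact Commute.isNilpotent_mul_right (Commute.all _ _) hq
  have hee : IsNilpotent e → e = 0 := fun ⟨n, hn⟩ => by
    cases n with
    | zero => exact eq_zero_of_zero_eq_one (by rw [pow_zero] at hn; exact hn.symm) e
    | succ n => rwa [he.pow_succ_eq n] at hn
  rcases IsLocalRing.isUnit_or_isUnit_one_sub_self q with hu' | hu'
  · right
    obtain ⟨v, hv⟩ := hu'
    have h1 : IsNilpotent (q - 1) := by
      have := Commute.isNilpotent_mul_left (x := (↑v⁻¹ : B ⊗[A] N)) (Commute.all _ _) hqq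
      rwa [← hv, ← mul_assoc, Units.inv_mul, one_mul, hv] at this
    have h2 : IsNilpotent (1 - e) := by
      have := (Commute.all _ _).isNilpotent_sub hq (h1.map υ)
      rw [map_sub, map_one] at this
      rwa [show υ q - e - (υ q - 1) = 1 - e by ring] at this
    obtain ⟨n, hn⟩ := h2
    cases n with
    | zero =>
      have h01 : (0 : B ⊗[A] L) = 1 := by rw [pow_zero] at hn; exact hn.symm
      exact (eq_zero_of_zero_eq_one h01 e).trans h01
    | succ n => rw [he.one_sub.pow_succ_eq n, sub_eq_zero] at hn; exact hn.symm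
  · left
    obtain ⟨v, hv⟩ := hu'
    have h1 : IsNilpotent q := by
      have := Commute.isNilpotent_mul_left (x := -(↑v⁻¹ : B ⊗[A] N)) (Commute.all _ _) hqq
      rwa [show -(↑v⁻¹ : B ⊗[A] N) * (q * (q - 1)) = ↑v⁻¹ * ↑v * q by rw [hv]; ring, Units.inv_mul, one_mul] at this
    refine hee ?_
    have := (Commute.all _ _).isNilpotent_sub (h1.map υ) hq
    rwa [show υ q - (υ q - e) = e by ring] at this

end Groth.Agent.GeomConn24
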